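import Mathlib
import Cfsg.Prelude.Def_KGroupFacts

/-!
# Core-free maximal subgroups of almost simple groups (S5880): the reduction to rows

`RowA S A` : `S` has a proper subgroup `K` whose `S`-class is invariant under the group `A` of automorphisms, of index
at most `|S : L| ^ 2` for every proper subgroup `L`. `Row S` : `RowA S A` for all `A ≥ Inn S`.
-/

set_option autoImplicit false

namespace Cfsg.Agent.H430.CfBase

universe u v

/-- The `S`-class of `K` is invariant under `A`. -/
def Inv {S : Type u} [Group S] (A : Subgroup (MulAut S)) (K : Subgroup S) : Prop :=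
  ∀ α ∈ A, ∃ s : S, K.map α.toMonoidHom = K.map (MulAut.conj s).toMonoidHom

/-- See the head of the file. -/
def RowA (S : Type u) [Group S] (A : Subgroup (MulAut S)) : Prop :=
  ∃ K : Subgroup S, K ≠ ⊤ ∧ Inv A K ∧ ∀ L : Subgroup S, L ≠ ⊤ → K.index ≤ L.index ^ 2

/-- See the head of the file. -/
def Row (S : Type u) [Group S] : Prop :=
  ∀ A : Subgroup (MulAut S), (MulAut.conj : S →* MulAut S).range ≤ A → RowA S A

/-- **The reduction.** -/
theorem of_row {G : Type u} [Group G] [Finite G] (S : Subgroup G) [S.Normal] (hS : IsSimpleGroup S)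
    (hC : Subgroup.centralizer (S : Set G) = ⊥) (hrow : Row S)
    (hbig : ∃ H : Subgroup S, H ≠ ⊤ ∧ H.index ^ 2 < Nat.card S) :
    ∃ M : Subgroup G, IsCoatom M ∧ M.normalCore = ⊥ ∧ ∀ K : Subgroup S, K ≠ ⊤ → M.index ≤ K.index ^ 2 := by
  obtain ⟨K, hKtop, hinv, hK⟩ := hrow (MulAut.conjNormal : G →* MulAut S).range (by
    rintro _ ⟨s, rfl⟩
    refine ⟨(s : G), ?_⟩
    ext x
    simp [MulAut.conjNormal_apply])
  set K' : Subgroup G := K.map S.subtype with hK'
  set N : Subgroup G := Subgroup.normalizer (K' : Set G) with hN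
  have hK'S : K' ≤ S := by
    rw [hK']; exact Subgroup.map_subtype_le K
  have hNS : N ⊔ S = ⊤ := by
    rw [eq_top_iff]
    intro g _
    obtain ⟨s, hs⟩ := hinv (MulAut.conjNormal g) ⟨g, rfl⟩
    have h1 : (s : G)⁻¹ * g ∈ N := by
      have h2 : ∀ x : S, x ∈ K → (⟨(s : G)⁻¹ * g * x * ((s : G)⁻¹ * g)⁻¹, by
          have := Subgroup.Normal.conj_mem (inferInstance : S.Normal) (x : G) x.2 ((s : G)⁻¹ * g)
          simpa using this⟩ : S) ∈ K := by
        intro x hx
        have h3 : (MulAut.conjNormal g x : S) ∈ K.map (MulAut.conj s).toMonoidHom := by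
          rw [← hs]
          exact ⟨x, hx, rfl⟩
        obtain ⟨y, hy, hyx⟩ := h3
        have h4 : (y : S) = ⟨(s : G)⁻¹ * g * x * ((s : G)⁻¹ * g)⁻¹, by
          have := Subgroup.Normal.conj_mem (inferInstance : S.Normal) (x : G) x.2 ((s : G)⁻¹ * g)
          simpa using this⟩ := by
          apply Subtype.ext
          have h5 := congrArg Subtype.val hyx
          simp only [MulEquiv.coe_toMonoidHom, MulAut.conj_apply, Subgroup.coe_mul, Subgroup.coe_inv,
            MulAut.conjNormal_apply] at h5
          show (y : G) = _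
          calc (y : G) = (s : G)⁻¹ * ((s : G) * y * (s : G)⁻¹) * s := by group
            _ = (s : G)⁻¹ * (g * x * g⁻¹) * s := by rw [h5]
            _ = _ := by group
        rw [← h4]
        exact hy
      rw [hN]
      have h6 : K'.map (MulAut.conj ((s : G)⁻¹ * g)).toMonoidHom ≤ K' := by
        rintro _ ⟨x, ⟨x', hx', rfl⟩, rfl⟩
        exact ⟨_, h2 x' hx', rfl⟩
      have h7 : K'.map (MulAut.conj ((s : G)⁻¹ * g)).toMonoidHom = K' :=
        Subgroup.eq_of_le_of_card_ge h6 (le_of_eq (Nat.card_congr
          (K'.equivMapOfInjective (MulAut.conj ((s : G)⁻¹ * g)).toMonoidHom (MulAut.conj _).injective).toEquiv))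
      rw [Subgroup.mem_normalizer_iff]
      intro x
      constructor
      · intro hx
        rw [← h7]
        exact ⟨x, hx, rfl⟩
      · intro hx
        rw [← h7] at hx
        obtain ⟨y, hy, hyx⟩ := hx
        have : y = x := (MulAut.conj ((s : G)⁻¹ * g)).injective hyx
        rwa [← this]
    have h2 : g = (s : G) * ((s : G)⁻¹ * g) := by group
    rw [h2]
    exact Subgroup.mul_mem _ (Subgroup.mem_sup_right s.2) (Subgroup.mem_sup_left h1)
  have hKbot : K ≠ ⊥ := by
    rintro rfl
    obtain ⟨H, hH, hlt⟩ := hbig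
    have := hK H hH
    rw [Subgroup.index_bot] at this
    omega
  have hNtop : N ≠ ⊤ := by
    intro h
    have hn : K.Normal := by
      refine ⟨fun x hx g => ?_⟩
      have h1 : (g : G) ∈ N := by rw [h]; exact Subgroup.mem_top _
      rw [hN, Subgroup.mem_normalizer_iff] at h1
      have h2 := (h1 (x : G)).1 ⟨x, hx, rfl⟩
      obtain ⟨y, hy, hyx⟩ := h2
      have : y = g * x * g⁻¹ := Subtype.ext hyx
      rwa [← this]
    rcases hS.eq_bot_or_eq_top_of_normal K hn with h1 | h1
    · exact hKbot h1
    · exact hKtop h1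
  obtain ⟨M, hM, hNM⟩ := (eq_top_or_exists_le_coatom N).resolve_left hNtop
  have hMS : M ⊔ S = ⊤ := by
    rw [eq_top_iff, ← hNS]
    exact sup_le_sup_right hNM _
  refine ⟨M, hM, ?_, ?_⟩
  · by_contra hne
    have hcn : M.normalCore.Normal := M.normalCore_normal
    have h1 : M.normalCore ⊓ S ≠ ⊥ := by
      intro h1
      apply hne
      rw [eq_bot_iff, ← hC]
      intro c hc
      rw [Subgroup.mem_centralizer_iff]
      intro s hs
      have h2 : c * s * c⁻¹ * s⁻¹ ∈ M.normalCore ⊓ S := by
        refine ⟨?_, ?_⟩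
        · have := M.normalCore.mul_mem hc (hcn.conj_mem _ (M.normalCore.inv_mem hc) s)
          simpa [mul_assoc] using this
        · exact S.mul_mem (Subgroup.Normal.conj_mem (inferInstance : S.Normal) s hs c) (S.inv_mem hs)
      rw [h1, Subgroup.mem_bot] at h2
      have h3 : c * s = s * c := by
        have := mul_inv_eq_one.1 h2
        rw [mul_inv_eq_iff_eq_mul] at this
        exact this
      exact h3.symm
    have h2 : ((M.normalCore).subgroupOf S).Normal := inferInstance
    rcases hS.eq_bot_or_eq_top_of_normal _ h2 with h3 | h3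
    · apply h1
      rw [eq_bot_iff]
      intro x hx
      have h4 : (⟨x, hx.2⟩ : S) ∈ (M.normalCore).subgroupOf S := hx.1
      rw [h3, Subgroup.mem_bot] at h4
      rw [Subgroup.mem_bot]
      exact congrArg Subtype.val h4
    · apply hM.1
      rw [eq_top_iff, ← hMS]
      refine sup_le le_rfl ?_
      exact (Subgroup.subgroupOf_eq_top.1 h3).trans M.normalCore_le
  · intro L hL
    refine le_trans ?_ (hK L hL)
    have h1 : M.index ≤ N.index :=
      Nat.le_of_dvd (Nat.pos_of_ne_zero Subgroup.FiniteIndex.index_ne_zero) (Subgroup.index_dvd_of_le hNM)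
    have h2 : N.index = N.relIndex S := by
      have e1 : S.relIndex N = S.index := by
        rw [← Subgroup.relIndex_sup_right N S, hNS, Subgroup.relIndex_top_right]
      have e2 := Subgroup.card_mul_index (S.subgroupOf N)
      have e3 := Subgroup.card_mul_index (N.subgroupOf S)
      have e4 := S.card_mul_index
      have e5 := N.card_mul_index
      have e6 : Nat.card (S.subgroupOf N) = Nat.card (N.subgroupOf S) := by
        rw [Nat.card_congr (Subgroup.equivMapOfInjective (S.subgroupOf N) N.subtype N.subtype_injective).toEquiv,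
          Nat.card_congr (Subgroup.equivMapOfInjective (N.subgroupOf S) S.subtype S.subtype_injective).toEquiv,
          Subgroup.subgroupOf_map_subtype, Subgroup.subgroupOf_map_subtype, inf_comm]
      have e7 : (S.subgroupOf N).index = S.index := e1
      have e8 : (N.subgroupOf S).index = N.relIndex S := rfl
      rw [e7] at e2
      rw [e8] at e3
      have hpos : 0 < Nat.card N := Nat.card_pos
      apply Nat.eq_of_mul_eq_mul_left hpos
      calc Nat.card N * N.index = Nat.card G := e5
        _ = Nat.card S * S.index := e4.symm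
        _ = (Nat.card (N.subgroupOf S) * N.relIndex S) * S.index := by rw [e3]
        _ = (Nat.card (S.subgroupOf N) * S.index) * N.relIndex S := by rw [e6]; ring
        _ = Nat.card N * N.relIndex S := by rw [e2]
    have h3 : N.relIndex S ≤ K'.relIndex S :=
      Subgroup.relIndex_le_of_le_left Subgroup.le_normalizer Subgroup.index_ne_zero_of_finite
    have h4 : K'.relIndex S = K.index := by
      rw [hK', Subgroup.relIndex, Subgroup.subgroupOf, Subgroup.comap_map_eq_self_of_injective S.subtype_injective]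
    omega

theorem map_map_mul {S : Type u} [Group S] (K : Subgroup S) (α β : MulAut S) :
    (K.map β.toMonoidHom).map α.toMonoidHom = K.map (α * β).toMonoidHom := by
  rw [Subgroup.map_map]; rfl

theorem map_one {S : Type u} [Group S] (K : Subgroup S) : K.map (1 : MulAut S).toMonoidHom = K := by
  ext x; simp

theorem index_map_aut {S : Type u} [Group S] (K : Subgroup S) (α : MulAut S) : (K.map α.toMonoidHom).index = K.index :=
  Subgroup.index_map_equiv K α

/-- From a subgroup whose class is invariant under all automorphisms. -/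
theorem Row.of_inv {S : Type u} [Group S] (K : Subgroup S) (hK : K ≠ ⊤)
    (hinv : ∀ α : MulAut S, ∃ s : S, K.map α.toMonoidHom = K.map (MulAut.conj s).toMonoidHom)
    (hb : ∀ L : Subgroup S, L ≠ ⊤ → K.index ≤ L.index ^ 2) : Row S :=
  fun _ _ => ⟨K, hK, fun α _ => hinv α, hb⟩

theorem Row.of_equiv {S : Type u} [Group S] {T : Type v} [Group T] (e : S ≃* T) (h : Row S) : Row T := by
  intro A hA
  obtain ⟨K, h1, h2, h3⟩ := h (A.comap (MulAut.congr e).toMonoidHom) (by
    rintro _ ⟨s, rfl⟩
    refine hA ⟨e s, ?_⟩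
    ext x
    simp [MulAut.congr])
  refine ⟨K.map e.toMonoidHom, ?_, ?_, ?_⟩
  · intro h
    apply h1
    rw [eq_top_iff]
    intro x _
    have : e x ∈ K.map e.toMonoidHom := by rw [h]; exact Subgroup.mem_top _
    obtain ⟨y, hy, hyx⟩ := this
    rwa [← e.injective hyx]
  · intro α hα
    obtain ⟨s, hs⟩ := h2 ((MulAut.congr e).symm α) (by
      show (MulAut.congr e) ((MulAut.congr e).symm α) ∈ A
      rwa [MulEquiv.apply_symm_apply])
    refine ⟨e s, ?_⟩
    have h4 : ∀ β : MulAut S, (K.map e.toMonoidHom).map ((MulAut.congr e) β).toMonoidHom =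
        (K.map β.toMonoidHom).map e.toMonoidHom := by
      intro β
      rw [Subgroup.map_map, Subgroup.map_map]
      congr 1
      ext x
      simp [MulAut.congr]
    have h5 := h4 ((MulAut.congr e).symm α)
    rw [MulEquiv.apply_symm_apply] at h5
    rw [h5, hs, ← h4]
    congr 2
    ext x
    simp [MulAut.congr]
  · intro L hL
    have h4 := h3 (L.comap e.toMonoidHom) (by
      intro h0
      apply hL
      rw [eq_top_iff]
      intro y _
      have h2 : e.symm y ∈ L.comap e.toMonoidHom := by rw [h0]; exact Subgroup.mem_top _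
      have h3 : e (e.symm y) ∈ L := h2
      rwa [e.apply_symm_apply] at h3)
    rw [Subgroup.index_comap_of_surjective L (f := e.toMonoidHom) e.surjective] at h4
    rwa [show (K.map e.toMonoidHom).index = K.index from Subgroup.index_map_equiv K e]

theorem Row.of_nonempty {S : Type u} [Group S] {T : Type v} [Group T] (e : Nonempty (T ≃* S)) (h : Row S) : Row T :=
  h.of_equiv e.some.symm

/-- A proper subgroup of least index. -/
theorem exists_min (S : Type u) [Group S] [Nontrivial S] : ∃ K : Subgroup S, K ≠ ⊤ ∧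
    ∀ L : Subgroup S, L ≠ ⊤ → K.index ≤ L.index := by
  classical
  have h : ∃ n, ∃ K : Subgroup S, K ≠ ⊤ ∧ K.index = n := ⟨_, ⊥, bot_ne_top, rfl⟩
  obtain ⟨K, hK, hn⟩ := Nat.find_spec h
  refine ⟨K, hK, fun L hL => ?_⟩
  rw [hn]
  exact Nat.find_min' h ⟨L, hL, rfl⟩

/-- **The pair trick.** The automorphisms in `A` are inner or of the form `(inner) ∘ β`, and `β²` is conjugation by an
element of the subgroup `K` of least index. -/
theorem RowA.of_pair' {S : Type u} [Group S] [Finite S] (A : Subgroup (MulAut S)) (K : Subgroup S) (hK : K ≠ ⊤)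
    (hmin : ∀ L : Subgroup S, L ≠ ⊤ → K.index ≤ L.index) (β : MulAut S)
    (hβ2 : ∃ t ∈ K, β * β = MulAut.conj t)
    (hA : ∀ α ∈ A, ∃ s : S, α = MulAut.conj s ∨ α = MulAut.conj s * β) : RowA S A := by
  obtain ⟨t, ht, hβ2⟩ := hβ2
  have hmap : (K ⊓ K.map β.toMonoidHom).map β.toMonoidHom = K ⊓ K.map β.toMonoidHom := by
    rw [Subgroup.map_inf _ _ _ β.injective, map_map_mul, hβ2, inf_comm]
    congr 1
    ext x
    constructor
    · rintro ⟨y, hy, rfl⟩
      exact K.mul_mem (K.mul_mem ht hy) (K.inv_mem ht)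
    · intro hx
      refine ⟨t⁻¹ * x * t, K.mul_mem (K.mul_mem (K.inv_mem ht) hx) ht, ?_⟩
      simp [MulAut.conj_apply, mul_assoc]
  refine ⟨K ⊓ K.map β.toMonoidHom, ?_, ?_, ?_⟩
  · intro h
    exact hK (eq_top_iff.2 (h ▸ inf_le_left))
  · intro α hα
    obtain ⟨s, rfl | rfl⟩ := hA α hα
    · exact ⟨s, rfl⟩
    · refine ⟨s, ?_⟩
      rw [← map_map_mul, hmap]
  · intro L hL
    calc (K ⊓ K.map β.toMonoidHom).index ≤ K.index * (K.map β.toMonoidHom).index := Subgroup.index_inf_le
      _ = K.index ^ 2 := by rw [index_map_aut, pow_two]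
      _ ≤ L.index ^ 2 := Nat.pow_le_pow_left (hmin L hL) 2

theorem RowA.of_pair {S : Type u} [Group S] [Finite S] [Nontrivial S] (A : Subgroup (MulAut S)) (β : MulAut S)
    (hβ2 : β * β = 1) (hA : ∀ α ∈ A, ∃ s : S, α = MulAut.conj s ∨ α = MulAut.conj s * β) : RowA S A := by
  obtain ⟨K, hK, hmin⟩ := exists_min S
  exact RowA.of_pair' A K hK hmin β ⟨1, K.one_mem, by rw [hβ2, _root_.map_one]⟩ hA

/-- All automorphisms in `A` are inner. -/
theorem RowA.of_inner {S : Type u} [Group S] [Nontrivial S] (A : Subgroup (MulAut S))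
    (hA : A ≤ (MulAut.conj : S →* MulAut S).range) : RowA S A := by
  obtain ⟨K, hK, hmin⟩ := exists_min S
  refine ⟨K, hK, fun α hα => ?_, fun L hL => ?_⟩
  · obtain ⟨s, rfl⟩ := hA hα
    exact ⟨s, rfl⟩
  · have h1 := hmin L hL
    nlinarith [Nat.le_self_pow (two_ne_zero) L.index]

theorem Row.of_inner {S : Type u} [Group S] [Nontrivial S]
    (hA : (MulAut.conj : S →* MulAut S).range = ⊤) : Row S := fun A _ => RowA.of_inner A (hA ▸ le_top)

/-- `S` has a proper subgroup of index at most `N` whose class is invariant under all automorphisms. -/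
def HasInv (S : Type u) [Group S] (N : ℕ) : Prop :=
  ∃ K : Subgroup S, K ≠ ⊤ ∧ (∀ α : MulAut S, ∃ s : S, K.map α.toMonoidHom = K.map (MulAut.conj s).toMonoidHom) ∧
    K.index ≤ N

/-- Index bound plus invariant class. -/
theorem Row.of_hasInv {S : Type u} [Group S] {N : ℕ} (h : HasInv S N)
    (hb : ∀ L : Subgroup S, L ≠ ⊤ → N ≤ L.index ^ 2) : Row S := by
  obtain ⟨K, h1, h2, h3⟩ := h
  exact Row.of_inv K h1 h2 fun L hL => h3.trans (hb L hL)

/-- Point stabilisers of a transitive action which is preserved by all automorphisms. -/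
theorem HasInv.of_action {S : Type u} [Group S] {Ω : Type v} [MulAction S Ω] [MulAction.IsPretransitive S Ω]
    [Finite Ω] (hnt : Nontrivial Ω) {N : ℕ} (hN : Nat.card Ω ≤ N)
    (h : ∀ α : MulAut S, ∃ f : Ω → Ω, Function.Injective f ∧ ∀ (s : S) (ω : Ω), f (s • ω) = α s • f ω) :
    HasInv S N := by
  obtain ⟨ω, ω', hne⟩ := hnt
  refine ⟨MulAction.stabilizer S ω, ?_, ?_, ?_⟩
  · intro ht
    obtain ⟨g, hg⟩ := MulAction.exists_smul_eq S ω ω'
    have : g ∈ MulAction.stabilizer S ω := by rw [ht]; exact Subgroup.mem_top _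
    rw [MulAction.mem_stabilizer_iff, hg] at this
    exact hne this.symm
  · intro α
    obtain ⟨f, hf, hα⟩ := h α
    obtain ⟨s, hs⟩ := MulAction.exists_smul_eq S ω (f ω)
    refine ⟨s, ?_⟩
    have h1 : (MulAction.stabilizer S ω).map α.toMonoidHom = MulAction.stabilizer S (f ω) := by
      ext x
      constructor
      · rintro ⟨y, hy, rfl⟩
        show α y • f ω = f ω
        rw [← hα]
        exact congrArg f hy
      · intro hx
        refine ⟨α.symm x, ?_, by simp⟩
        show α.symm x • ω = ω
        apply hf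
        rw [hα]
        show α (α.symm x) • f ω = f ω
        rw [MulEquiv.apply_symm_apply]
        exact hx
    rw [h1, ← hs, MulAction.stabilizer_smul_eq_stabilizer_map_conj]
  · rw [MulAction.index_stabilizer_of_transitive]
    exact hN

/-- `|Out S| ≤ 2`, with an outer involution. -/
theorem Row.of_out_two {S : Type u} [Group S] [Finite S] [Nontrivial S] (β : MulAut S) (hβ2 : β * β = 1)
    (hA : ∀ α : MulAut S, ∃ s : S, α = MulAut.conj s ∨ α = MulAut.conj s * β) : Row S :=
  fun A _ => RowA.of_pair A β hβ2 fun α _ => hA α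

theorem Row.of_index_two {S : Type u} [Group S] [Finite S] [Nontrivial S]
    (h2 : (MulAut.conj : S →* MulAut S).range.index = 2) (β : MulAut S)
    (hβ : β ∉ (MulAut.conj : S →* MulAut S).range) (hβ2 : β * β = 1) : Row S := by
  refine Row.of_out_two β hβ2 fun α => ?_
  by_cases hα : α ∈ (MulAut.conj : S →* MulAut S).range
  · obtain ⟨s, hs⟩ := hα
    exact ⟨s, Or.inl hs.symm⟩
  · have h1 : α * β⁻¹ ∈ (MulAut.conj : S →* MulAut S).range := by
      rw [Subgroup.mul_mem_iff_of_index_two h2]
      exact ⟨fun h => absurd h hα, fun h => absurd (by simpa using inv_mem h) hβ⟩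
    obtain ⟨s, hs⟩ := h1
    refine ⟨s, Or.inr ?_⟩
    rw [hs]; group

/-- It is enough to look at the automorphisms which normalise a Sylow subgroup. -/
theorem inv_of_sylow {S : Type u} [Group S] [Finite S] {p : ℕ} [Fact p.Prime] (U : Sylow p S) (K : Subgroup S)
    (h : ∀ α : MulAut S, (U : Subgroup S).map α.toMonoidHom = U →
      ∃ s : S, K.map α.toMonoidHom = K.map (MulAut.conj s).toMonoidHom) (α : MulAut S) :
    ∃ s : S, K.map α.toMonoidHom = K.map (MulAut.conj s).toMonoidHom := by
  have h1 : Nat.card ((U : Subgroup S).map α.toMonoidHom) = Nat.card (U : Subgroup S) :=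
    (Nat.card_congr ((U : Subgroup S).equivMapOfInjective α.toMonoidHom α.injective).toEquiv).symm
  have h2 : Nat.card ((U : Subgroup S).map α.toMonoidHom) = p ^ (Nat.card S).factorization p := by
    rw [h1]; exact U.card_eq_multiplicity
  obtain ⟨g, hg⟩ := MulAction.exists_smul_eq S U (Sylow.ofCard _ h2)
  have hg' : (U : Subgroup S).map (MulAut.conj g).toMonoidHom = (U : Subgroup S).map α.toMonoidHom := by
    have := congrArg (fun P : Sylow p S => (P : Subgroup S)) hg
    exact this
  obtain ⟨s, hs⟩ := h ((MulAut.conj g)⁻¹ * α) (by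
    rw [← map_map_mul, ← hg', map_map_mul, inv_mul_cancel, map_one])
  refine ⟨g * s, ?_⟩
  have h3 := congrArg (fun L : Subgroup S => L.map (MulAut.conj g).toMonoidHom) hs
  simp only [map_map_mul] at h3
  rw [mul_inv_cancel_left, ← _root_.map_mul] at h3
  exact h3

theorem normalizer_map {S : Type u} [Group S] [Finite S] (C : Subgroup S) (α : MulAut S) :
    (Subgroup.normalizer (C : Set S)).map α.toMonoidHom = Subgroup.normalizer ((C.map α.toMonoidHom : Subgroup S) : Set S) :=
  Subgroup.map_equiv_normalizer_eq C α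

/-- The normaliser of a characteristic subgroup of a Sylow subgroup. -/
theorem inv_normalizer_of_char {S : Type u} [Group S] [Finite S] {p : ℕ} [Fact p.Prime] (U : Sylow p S)
    (C : Subgroup S) (hchar : ∀ α : MulAut S, (U : Subgroup S).map α.toMonoidHom = U → C.map α.toMonoidHom = C)
    (α : MulAut S) : ∃ s : S, (Subgroup.normalizer (C : Set S)).map α.toMonoidHom =
      (Subgroup.normalizer (C : Set S)).map (MulAut.conj s).toMonoidHom := by
  refine inv_of_sylow U _ (fun α hα => ⟨1, ?_⟩) α
  rw [normalizer_map, hchar α hα, _root_.map_one, map_one]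

/-- The normaliser of a Sylow subgroup. -/
theorem Row.of_sylow {S : Type u} [Group S] [Finite S] {p : ℕ} [Fact p.Prime] (U : Sylow p S)
    (hU : Subgroup.normalizer ((U : Subgroup S) : Set S) ≠ ⊤)
    (hb : ∀ L : Subgroup S, L ≠ ⊤ → (Subgroup.normalizer ((U : Subgroup S) : Set S)).index ≤ L.index ^ 2) : Row S :=
  Row.of_inv _ hU (inv_normalizer_of_char U (U : Subgroup S) fun _ h => h) hb

end Cfsg.Agent.H430.CfBase
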