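import Cfsg.Agent.H430.CfG2Frame
import Cfsg.Agent.H934.HeisF4Even

/-!
# The smallest index of a proper subgroup of `G₂(q)`, `q = 3^f ≥ 9`

`main` : `q² (q² - 1) ≤ |G₂(q) : H|`.
-/

set_option autoImplicit false

namespace Cfsg.Agent.H430.CfG2Three

open Cfsg Cfsg.Lie Cfsg.Agent.ChevalleyStructure Cfsg.Agent.ChevalleyStructure.Elts
  Cfsg.Agent.H70.ChevFix Cfsg.Agent.H69.OutGF Cfsg.Agent.H934.HeisSq Cfsg.Agent.H934.HeisEC Cfsg.Agent.H934.HeisG
  Cfsg.Agent.H430.CfG2Frame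

universe u

/-- The long roots. -/
def tab3 : HT 2 where
  S := ![6, 10]
  th := 11
  opp := fun i => ⟨1 - i, by omega⟩
  e := ![-1, 1]
  p := 1

theorem tab3_ok : tab3.Ok chevG2 where
  S_lt := by decide +kernel
  th_lt := by decide +kernel
  th_ne := by decide +kernel
  S_ne := by decide +kernel
  opp_ne := by decide +kernel
  opp_opp := by decide +kernel
  p_lt := by decide +kernel
  p_th := by decide +kernel

/-- The roots of `E`. -/
def rE : Fin 3 → ℕ := ![8, 9, 11]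

theorem rE_lt : ∀ k, rE k < chevG2.nroots := by decide +kernel

theorem rE_ne : ∀ k l, k ≠ l → rE l ≠ rE k ∧ rE l ≠ chevG2.neg (rE k) ∧
    ∀ q ∈ chevG2.commTerms (rE k) (rE l), q.2.1 % 3 = 0 := by
  decide +kernel

theorem S_rE : ∀ k i, tab3.S i ≠ rE k ∧ tab3.S i ≠ chevG2.neg (rE k) ∧ chevG2.commTerms (rE k) (tab3.S i) = [] := by
  decide +kernel

theorem act_tab : chevG2.commTerms 8 7 = [(9, 2, 1, 1), (11, 3, 2, 1), (10, -3, 1, 2)] ∧
    chevG2.commTerms 9 7 = [(10, -3, 1, 1)] ∧ chevG2.commTerms 11 7 = [] ∧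
    chevG2.commTerms 8 4 = [(6, 3, 1, 1)] ∧ chevG2.commTerms 9 4 = [(8, 2, 1, 1), (11, -3, 2, 1), (6, 3, 1, 2)] ∧
    chevG2.commTerms 11 4 = [] := by
  decide +kernel

theorem act_ne : (7 : ℕ) ≠ chevG2.neg 8 ∧ 7 ≠ chevG2.neg 9 ∧ 7 ≠ chevG2.neg 11 ∧ 4 ≠ chevG2.neg 8 ∧
    4 ≠ chevG2.neg 9 ∧ 4 ≠ chevG2.neg 11 := by decide +kernel

/-- The abelian group. -/
abbrev EE (F : Type u) : Type u := Fin 3 → Multiplicative F

/-- A coordinate. -/
def sg {F : Type u} [Field F] (k : Fin 3) (v : F) : EE F := Pi.mulSingle k (Multiplicative.ofAdd v)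

theorem sg_add {F : Type u} [Field F] (k : Fin 3) (v w : F) : sg k (v + w) = sg k v * sg k w := by
  unfold sg
  rw [ofAdd_add, Pi.mulSingle_mul]

section Emb

variable {F : Type u} [Field F]

/-- A root group. -/
noncomputable def xh (F : Type u) [Field F] (r : ℕ) : Multiplicative F →* ↥(chevG2.group F) where
  toFun := fun v => xe hG2 r (Multiplicative.toAdd v)
  map_one' := xe_zero hG2 r
  map_mul' := fun a b => xe_add hG2 r _ _

/-- The embedding. -/
noncomputable def ii (h3 : (3 : F) = 0) : EE F →* ↥(chevG2.group F) :=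
  MonoidHom.noncommPiCoprod (fun k => xh F (rE k)) (by
    intro k l hkl x y
    obtain ⟨h1, h2, h4⟩ := rE_ne k l hkl
    exact (comm_three h3 (rE_lt k) (rE_lt l) h1 h2 h4 _ _).symm)

variable (h3 : (3 : F) = 0)

theorem ii_sg (k : Fin 3) (v : F) : ii h3 (sg k v) = xe hG2 (rE k) v :=
  MonoidHom.noncommPiCoprod_mulSingle _ _ _

theorem eq_prod (e : EE F) : e = sg 0 (Multiplicative.toAdd (e 0)) * (sg 1 (Multiplicative.toAdd (e 1)) *
    sg 2 (Multiplicative.toAdd (e 2))) := by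
  funext k
  fin_cases k <;> simp [sg, Pi.mulSingle_apply, Pi.mul_apply]

theorem ii_eq (e : EE F) : ii h3 e = xe hG2 8 (Multiplicative.toAdd (e 0)) * (xe hG2 9 (Multiplicative.toAdd (e 1)) *
    xe hG2 11 (Multiplicative.toAdd (e 2))) := by
  conv_lhs => rw [eq_prod e]
  simp only [map_mul, ii_sg]
  rfl

/-- coefficients -/
def cf (e : EE F) (r : ℕ) : F :=
  match r with
  | 8 => Multiplicative.toAdd (e 0)
  | 9 => Multiplicative.toAdd (e 1)
  | 11 => Multiplicative.toAdd (e 2)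
  | _ => 0

theorem ii_word (e : EE F) : (ii h3 e : GL chevG2.Idx F) =
    wordG hG2 ((Cfsg.Agent.ChevalleyStructure.UnipProd.rootsGE chevG2 8).map fun r => (r, cf e r)) := by
  have h : Cfsg.Agent.ChevalleyStructure.UnipProd.rootsGE chevG2 8 = [8, 9, 10, 11] := by decide +kernel
  rw [h, ii_eq]
  simp only [List.map_cons, List.map_nil, wordG_cons, wordG_nil, cf, xG_zero, one_mul, mul_one]
  rfl

theorem ii_inj : Function.Injective (ii h3) := by
  intro e e' h
  have h1 : (ii h3 e : GL chevG2.Idx F) = ii h3 e' := congrArg Subtype.val h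
  rw [ii_word, ii_word] at h1
  have h2 := Cfsg.Agent.ChevalleyStructure.UnipProd.prod_injective hG2 (by decide +kernel) h1
  have h3 : ∀ k : Fin 3, cf e (rE k) = cf e' (rE k) := fun k => h2 _ (by revert k; decide) (rE_lt k)
  funext k
  have h4 := h3 k
  fin_cases k <;> exact h4

end Emb

/-! ### Characters -/

section Mu

variable {F : Type u} [Field F] [Finite F]

/-- A nontrivial additive character. -/
theorem exists_ch (F : Type u) [Field F] [Finite F] : ∃ ch : Multiplicative F →* ℂˣ,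
    ∀ a : F, a ≠ 0 → ∃ x : F, ch (Multiplicative.ofAdd (a * x)) ≠ 1 := by
  have := Fintype.ofFinite F
  have h1 : (Multiplicative.ofAdd (1 : F)) ≠ 1 := by
    intro h
    have : (1 : F) = 0 := h
    exact one_ne_zero this
  obtain ⟨φ, hφ⟩ := CommGroup.exists_apply_ne_one_of_hasEnoughRootsOfUnity (Multiplicative F) ℂ h1
  refine ⟨φ, fun a ha => ⟨a⁻¹, ?_⟩⟩
  rw [mul_inv_cancel₀ ha]
  exact hφ

/-- The characters. -/
noncomputable def mu (ch : Multiplicative F →* ℂˣ) (β : Fin 3 → F) : EE F →* ℂˣ where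
  toFun := fun e => ch (Multiplicative.ofAdd (∑ k, β k * Multiplicative.toAdd (e k)))
  map_one' := by simp
  map_mul' := fun a b => by
    rw [← map_mul, ← ofAdd_add, ← Finset.sum_add_distrib]
    congr 2
    refine Finset.sum_congr rfl fun k _ => ?_
    rw [Pi.mul_apply, toAdd_mul, mul_add]

variable {ch : Multiplicative F →* ℂˣ}

theorem mu_sg (β : Fin 3 → F) (k : Fin 3) (v : F) : mu ch β (sg k v) = ch (Multiplicative.ofAdd (β k * v)) := by
  show ch (Multiplicative.ofAdd (∑ l, β l * Multiplicative.toAdd (sg k v l))) = _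
  rw [Finset.sum_eq_single k]
  · simp [sg]
  · intro l _ hl
    simp [sg, Pi.mulSingle_eq_of_ne hl]
  · intro h
    exact absurd (Finset.mem_univ k) h

theorem ch_ext (hch : ∀ a : F, a ≠ 0 → ∃ x : F, ch (Multiplicative.ofAdd (a * x)) ≠ 1) {a b : F}
    (h : ∀ v, ch (Multiplicative.ofAdd (a * v)) = ch (Multiplicative.ofAdd (b * v))) : a = b := by
  by_contra hab
  obtain ⟨x, hx⟩ := hch (a - b) (sub_ne_zero.2 hab)
  apply hx
  rw [sub_mul, ofAdd_sub, map_div, h x, div_self']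

theorem mu_injective (hch : ∀ a : F, a ≠ 0 → ∃ x : F, ch (Multiplicative.ofAdd (a * x)) ≠ 1) :
    Function.Injective (mu ch) := by
  intro β β' h
  funext k
  refine ch_ext hch fun v => ?_
  have h1 := DFunLike.congr_fun h (sg k v)
  rwa [mu_sg, mu_sg] at h1

theorem mu_surjective (hch : ∀ a : F, a ≠ 0 → ∃ x : F, ch (Multiplicative.ofAdd (a * x)) ≠ 1) :
    Function.Surjective (mu ch) := by
  have h1 : Monoid.exponent (EE F) ≠ 0 := Monoid.exponent_ne_zero_of_finite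
  haveI : NeZero (Monoid.exponent (EE F)) := ⟨h1⟩
  have h2 : Nat.card (EE F →* ℂˣ) = Nat.card (EE F) := CommGroup.card_monoidHom_of_hasEnoughRootsOfUnity (EE F) ℂ
  have h3 : Nat.card (Fin 3 → F) = Nat.card (EE F →* ℂˣ) := by
    rw [h2]
    exact Nat.card_congr (Equiv.refl _)
  haveI : Finite (EE F →* ℂˣ) := by
    apply Nat.finite_of_card_ne_zero
    rw [h2]
    exact Nat.card_pos.ne'
  exact ((Nat.bijective_iff_injective_and_card _).2 ⟨mu_injective hch, h3⟩).2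

/-- A character nontrivial on two given elements. -/
theorem exists_char2 {E : Type*} [CommGroup E] [Finite E] (S : Subgroup E) {x y : E} (hx : x ∉ S) (hy : y ∉ S) :
    ∃ μ : E →* ℂˣ, (∀ s ∈ S, μ s = 1) ∧ μ x ≠ 1 ∧ μ y ≠ 1 := by
  have key : ∀ z : E, z ∉ S → ∃ μ : E →* ℂˣ, (∀ s ∈ S, μ s = 1) ∧ μ z ≠ 1 := by
    intro z hz
    have h1 : (QuotientGroup.mk z : E ⧸ S) ≠ 1 := by
      intro h
      exact hz ((QuotientGroup.eq_one_iff z).1 h)
    have : NeZero (Monoid.exponent (E ⧸ S)) := ⟨Monoid.exponent_ne_zero_of_finite⟩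
    obtain ⟨φ, hφ⟩ := CommGroup.exists_apply_ne_one_of_hasEnoughRootsOfUnity (E ⧸ S) ℂ h1
    refine ⟨φ.comp (QuotientGroup.mk' S), fun s hs => ?_, hφ⟩
    show φ (QuotientGroup.mk s) = 1
    rw [(QuotientGroup.eq_one_iff s).2 hs, map_one]
  obtain ⟨μ, h1, h2⟩ := key x hx
  obtain ⟨ν, h3, h4⟩ := key y hy
  by_cases h5 : μ y = 1
  · by_cases h6 : ν x = 1
    · refine ⟨μ * ν, fun s hs => ?_, ?_, ?_⟩
      · rw [MonoidHom.mul_apply, h1 s hs, h3 s hs, mul_one]
      · rw [MonoidHom.mul_apply, h6, mul_one]; exact h2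
      · rw [MonoidHom.mul_apply, h5, one_mul]; exact h4
    · exact ⟨ν, h3, h6, h4⟩
  · exact ⟨μ, h1, h2, h5⟩

end Mu

/-! ### The special group -/

section Ext

variable {F : Type u} [Field F]

theorem e_ne : ∀ i, (tab3.e i : F) ≠ 0 := by
  have h : ∀ i, tab3.e i = 1 ∨ tab3.e i = -1 := by decide
  intro i
  rcases h i with h | h <;> rw [h]
  · simp
  · simp

/-- The special group. -/
noncomputable def DD (F : Type u) [Field F] : D0 ↥(chevG2.group F) (Fin 2 → F) F :=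
  (tab3.rs hG2 tab3_ok F e_ne).toD0

theorem xe_ii (h3 : (3 : F) = 0) (i : Fin 2) (t : F) (e : EE F) :
    xe hG2 (tab3.S i) t * ii h3 e = ii h3 e * xe hG2 (tab3.S i) t := by
  have h' : ∀ k v, xe hG2 (tab3.S i) t * ii h3 (sg k v) = ii h3 (sg k v) * xe hG2 (tab3.S i) t := by
    intro k v
    rw [ii_sg]
    obtain ⟨h1, h2, h4⟩ := S_rE k i
    exact comm_three h3 (rE_lt k) (tab3_ok.S_lt i) h1 h2 (by rw [h4]; simp) v t
  rw [eq_prod e]
  have hm : ∀ a b : EE F, xe hG2 (tab3.S i) t * ii h3 a = ii h3 a * xe hG2 (tab3.S i) t →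
      xe hG2 (tab3.S i) t * ii h3 b = ii h3 b * xe hG2 (tab3.S i) t →
      xe hG2 (tab3.S i) t * ii h3 (a * b) = ii h3 (a * b) * xe hG2 (tab3.S i) t := by
    intro a b ha hb
    rw [map_mul, ← mul_assoc, ha, mul_assoc, hb, mul_assoc]
  exact hm _ _ (h' _ _) (hm _ _ (h' _ _) (h' _ _))

theorem ext (h3 : (3 : F) = 0) : Ext (DD F) (ii h3) (fun a => sg 2 a) where
  inj := ii_inj h3
  i_j := fun a => ii_sg h3 2 a
  X_i := by
    intro v e
    have hi : ∀ (v : Fin 2 → F) (l : List (Fin 2)), (tab3.rs hG2 tab3_ok F e_ne).P l v * ii h3 e =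
        ii h3 e * (tab3.rs hG2 tab3_ok F e_ne).P l v := by
      intro v l
      induction l with
      | nil => rw [RS.P_nil, one_mul, mul_one]
      | cons a l ih =>
        rw [RS.P_cons, mul_assoc, ih, ← mul_assoc, ← mul_assoc]
        congr 1
        exact xe_ii h3 a _ e
    exact hi v _

/-- the action of `X_a` on `E` -/
theorem conj_a (h3 : (3 : F) = 0) (τ : F) (e : EE F) :
    ii h3 (sg 0 (Multiplicative.toAdd (e 0)) * (sg 1 (Multiplicative.toAdd (e 1) + Multiplicative.toAdd (e 0) * τ) *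
      sg 2 (Multiplicative.toAdd (e 2)))) = xe hG2 7 τ * ii h3 e * (xe hG2 7 τ)⁻¹ := by
  rw [ii_eq h3 e, eq_mul_inv_iff_mul_eq, sg_add]
  simp only [map_mul, ii_sg]
  generalize Multiplicative.toAdd (e 0) = a
  generalize Multiplicative.toAdd (e 1) = b
  generalize Multiplicative.toAdd (e 2) = c
  have r0 : rE 0 = 8 := rfl
  have r1 : rE 1 = 9 := rfl
  have r2 : rE 2 = 11 := rfl
  rw [r0, r1, r2]
  have h8 := comm (F := F) (r := 8) (s := 7) (by rw [nr]; norm_num) (by rw [nr]; norm_num) (by norm_num) act_ne.1 a τ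
  rw [act_tab.1] at h8
  simp only [List.map_cons, List.map_nil, List.prod_cons, List.prod_nil, mul_one] at h8
  have e1 : (((2 : ℤ) : F) * (-a) ^ 1 * τ ^ 1) = a * τ := by push_cast; linear_combination (-(a * τ)) * h3
  have e2 : (((3 : ℤ) : F) * (-a) ^ 2 * τ ^ 1) = 0 := by push_cast; rw [h3]; ring
  have e3 : (((-3 : ℤ) : F) * (-a) ^ 1 * τ ^ 2) = 0 := by push_cast; rw [h3]; ring
  rw [e1, e2, e3, xe_zero, xe_zero, mul_one, mul_one] at h8
  have h9 : ∀ x, xe hG2 7 τ * xe hG2 9 x = xe hG2 9 x * xe hG2 7 τ := fun x =>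
    comm_three h3 (r := 9) (s := 7) (by rw [nr]; norm_num) (by rw [nr]; norm_num) (by norm_num) act_ne.2.1
      (by rw [act_tab.2.1]; simp) x τ
  have h11 : ∀ x, xe hG2 7 τ * xe hG2 11 x = xe hG2 11 x * xe hG2 7 τ := fun x =>
    comm_three h3 (r := 11) (s := 7) (by rw [nr]; norm_num) (by rw [nr]; norm_num) (by norm_num) act_ne.2.2.1
      (by rw [act_tab.2.2.1]; simp) x τ
  have h99 : xe hG2 9 b * xe hG2 9 (a * τ) = xe hG2 9 (a * τ) * xe hG2 9 b := by
    rw [← xe_add, ← xe_add, add_comm]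
  calc xe hG2 8 a * (xe hG2 9 b * xe hG2 9 (a * τ) * xe hG2 11 c) * xe hG2 7 τ
      = xe hG2 8 a * (xe hG2 9 (a * τ) * xe hG2 9 b) * (xe hG2 11 c * xe hG2 7 τ) := by rw [h99]; group
    _ = xe hG2 8 a * xe hG2 9 (a * τ) * (xe hG2 9 b * xe hG2 7 τ) * xe hG2 11 c := by rw [← h11]; group
    _ = xe hG2 8 a * (xe hG2 9 (a * τ) * xe hG2 7 τ) * xe hG2 9 b * xe hG2 11 c := by rw [← h9]; group
    _ = (xe hG2 8 a * xe hG2 7 τ * xe hG2 9 (a * τ)) * xe hG2 9 b * xe hG2 11 c := by rw [← h9]; group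
    _ = xe hG2 7 τ * (xe hG2 8 a * (xe hG2 9 b * xe hG2 11 c)) := by rw [← h8]; group

/-- the action of `X_{-a}` on `E` -/
theorem conj_ma (h3 : (3 : F) = 0) (τ : F) (e : EE F) :
    ii h3 (sg 0 (Multiplicative.toAdd (e 0) + Multiplicative.toAdd (e 1) * τ) * (sg 1 (Multiplicative.toAdd (e 1)) *
      sg 2 (Multiplicative.toAdd (e 2)))) = xe hG2 4 τ * ii h3 e * (xe hG2 4 τ)⁻¹ := by
  rw [ii_eq h3 e, eq_mul_inv_iff_mul_eq, sg_add]
  simp only [map_mul, ii_sg]
  generalize Multiplicative.toAdd (e 0) = a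
  generalize Multiplicative.toAdd (e 1) = b
  generalize Multiplicative.toAdd (e 2) = c
  have r0 : rE 0 = 8 := rfl
  have r1 : rE 1 = 9 := rfl
  have r2 : rE 2 = 11 := rfl
  rw [r0, r1, r2]
  have h9 := comm (F := F) (r := 9) (s := 4) (by rw [nr]; norm_num) (by rw [nr]; norm_num) (by norm_num)
    act_ne.2.2.2.2.1 b τ
  rw [act_tab.2.2.2.2.1] at h9
  simp only [List.map_cons, List.map_nil, List.prod_cons, List.prod_nil, mul_one] at h9
  have e1 : (((2 : ℤ) : F) * (-b) ^ 1 * τ ^ 1) = b * τ := by push_cast; linear_combination (-(b * τ)) * h3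
  have e2 : (((-3 : ℤ) : F) * (-b) ^ 2 * τ ^ 1) = 0 := by push_cast; rw [h3]; ring
  have e3 : (((3 : ℤ) : F) * (-b) ^ 1 * τ ^ 2) = 0 := by push_cast; rw [h3]; ring
  rw [e1, e2, e3, xe_zero, xe_zero, mul_one, mul_one] at h9
  have h8 : ∀ x, xe hG2 4 τ * xe hG2 8 x = xe hG2 8 x * xe hG2 4 τ := fun x =>
    comm_three h3 (r := 8) (s := 4) (by rw [nr]; norm_num) (by rw [nr]; norm_num) (by norm_num) act_ne.2.2.2.1
      (by rw [act_tab.2.2.2.1]; simp) x τ
  have h11 : ∀ x, xe hG2 4 τ * xe hG2 11 x = xe hG2 11 x * xe hG2 4 τ := fun x =>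
    comm_three h3 (r := 11) (s := 4) (by rw [nr]; norm_num) (by rw [nr]; norm_num) (by norm_num) act_ne.2.2.2.2.2
      (by rw [act_tab.2.2.2.2.2]; simp) x τ
  have h98 : xe hG2 8 (b * τ) * xe hG2 9 b = xe hG2 9 b * xe hG2 8 (b * τ) :=
    (comm_three h3 (r := 8) (s := 9) (by rw [nr]; norm_num) (by rw [nr]; norm_num) (by norm_num)
      (neqs.2.2.2.2.2 8 (by simp) 9 (by simp)) (abel 8 (by simp) 9 (by simp)) (b * τ) b).symm
  calc xe hG2 8 a * xe hG2 8 (b * τ) * (xe hG2 9 b * xe hG2 11 c) * xe hG2 4 τ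
      = xe hG2 8 a * (xe hG2 8 (b * τ) * xe hG2 9 b) * (xe hG2 11 c * xe hG2 4 τ) := by group
    _ = xe hG2 8 a * xe hG2 9 b * (xe hG2 8 (b * τ) * xe hG2 4 τ) * xe hG2 11 c := by rw [h98, ← h11]; group
    _ = xe hG2 8 a * (xe hG2 9 b * xe hG2 4 τ * xe hG2 8 (b * τ)) * xe hG2 11 c := by rw [← h8]; group
    _ = (xe hG2 8 a * xe hG2 4 τ) * xe hG2 9 b * xe hG2 11 c := by rw [← h9]; group
    _ = xe hG2 4 τ * (xe hG2 8 a * (xe hG2 9 b * xe hG2 11 c)) := by rw [← h8]; group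

end Ext

/-! ### The bound -/

section Main

variable {F : Type u} [Field F] [Finite F]

theorem mu_apply (ch : Multiplicative F →* ℂˣ) (β : Fin 3 → F) (a b c : F) :
    mu ch β (sg 0 a * (sg 1 b * sg 2 c)) = ch (Multiplicative.ofAdd (β 0 * a + β 1 * b + β 2 * c)) := by
  rw [map_mul, map_mul, mu_sg, mu_sg, mu_sg, ← map_mul, ← map_mul, ← ofAdd_add, ← ofAdd_add]
  congr 2
  ring

theorem w_orbit (h3 : (3 : F) = 0) (ch : Multiplicative F →* ℂˣ) {w : (EE F →* ℂˣ) → ℕ}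
    (hw : ∀ (g : ↥(chevG2.group F)) (φ : EE F ≃* EE F), (∀ e, ii h3 (φ e) = g * ii h3 e * g⁻¹) →
      ∀ μ, w (μ.comp φ.toMonoidHom) = w μ) {b c : F} (z : F) (hbc : b ≠ 0 ∨ c ≠ 0) :
    w (mu ch ![b, c, z]) = w (mu ch ![1, 0, z]) := by
  have s1 : ∀ b c τ : F, w (mu ch ![b + c * τ, c, z]) = w (mu ch ![b, c, z]) := by
    intro b c τ
    refine H934.HeisF4Even.w_conj (ii_inj h3) hw (xe hG2 7 τ) _ _ fun e => ⟨_, conj_a h3 τ e, ?_⟩
    rw [mu_apply]
    conv_rhs => rw [eq_prod e]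
    rw [mu_apply]
    congr 2
    show b * _ + c * _ + z * _ = (b + c * τ) * _ + c * _ + z * _
    ring
  have s2 : ∀ b c τ : F, w (mu ch ![b, c + b * τ, z]) = w (mu ch ![b, c, z]) := by
    intro b c τ
    refine H934.HeisF4Even.w_conj (ii_inj h3) hw (xe hG2 4 τ) _ _ fun e => ⟨_, conj_ma h3 τ e, ?_⟩
    rw [mu_apply]
    conv_rhs => rw [eq_prod e]
    rw [mu_apply]
    congr 2
    show b * _ + c * _ + z * _ = b * _ + (c + b * τ) * _ + z * _
    ring
  have s3 : ∀ b c : F, c ≠ 0 → w (mu ch ![b, c, z]) = w (mu ch ![1, 0, z]) := by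
    intro b c hc
    have h1 := s1 b c ((1 - b) / c)
    rw [mul_div_cancel₀ _ hc, add_sub_cancel] at h1
    have h2 := s2 1 c (-c)
    rw [one_mul, add_neg_cancel] at h2
    rw [← h1, h2]
  rcases eq_or_ne c 0 with rfl | hc
  · have hb : b ≠ 0 := by
      rcases hbc with h | h
      · exact h
      · exact absurd rfl h
    have h1 := s2 b 0 (b⁻¹)
    rw [mul_inv_cancel₀ hb, zero_add] at h1
    rw [← h1]
    exact s3 b 1 one_ne_zero
  · exact s3 b c hc

/-- The centre. -/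
def sgh (F : Type u) [Field F] : Multiplicative F →* EE F := MonoidHom.mulSingle (fun _ => Multiplicative F) 2

theorem sgh_apply (a : F) : sgh F (Multiplicative.ofAdd a) = sg 2 a := rfl

theorem sgh_injective : Function.Injective (sgh F) := by
  intro a b h
  have h1 : sgh F a 2 = sgh F b 2 := congrFun h 2
  have h2 : ∀ a, sgh F a 2 = a := fun a => Pi.mulSingle_eq_same (M := fun _ => Multiplicative F) (2 : Fin 3) a
  rw [h2, h2] at h1
  exact h1

theorem card_Z : Nat.card (sgh F).range = Nat.card F := by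
  rw [← Nat.card_congr (MonoidHom.ofInjective (sgh_injective (F := F))).toEquiv]
  exact Nat.card_congr Multiplicative.toAdd

theorem card_EE : Nat.card (EE F) = Nat.card F ^ 3 := by
  rw [Nat.card_fun, Nat.card_eq_fintype_card (α := Fin 3), Fintype.card_fin]
  rfl

theorem eq_top_of_PP (hs : IsSimpleGroup ↥(chevG2.group F)) (H : Subgroup ↥(chevG2.group F))
    (h : ∀ g, CfG2Frame.PP H 11 g) : H = ⊤ := by
  have h1 : Subgroup.normalClosure ({xe hG2 11 (1 : F)} : Set ↥(chevG2.group F)) ≤ H := by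
    rw [Subgroup.normalClosure, Subgroup.closure_le]
    intro x hx
    obtain ⟨y, hy, hyx⟩ := Group.mem_conjugatesOfSet_iff.1 hx
    rw [Set.mem_singleton_iff] at hy
    obtain ⟨c, hc⟩ := isConj_iff.1 hyx
    have h2 := h c⁻¹ 1
    rw [inv_inv] at h2
    rw [← hc, hy]
    exact h2
  rcases hs.eq_bot_or_eq_top_of_normal _ (Subgroup.normalClosure_normal (s := {xe hG2 11 (1 : F)})) with h2 | h2
  · exfalso
    have h3 : xe hG2 11 (1 : F) ∈ Subgroup.normalClosure ({xe hG2 11 (1 : F)} : Set ↥(chevG2.group F)) :=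
      Subgroup.subset_normalClosure rfl
    rw [h2, Subgroup.mem_bot] at h3
    exact one_ne_zero (xe_eq_one hG2 (by rw [nr]; norm_num) h3)
  · rw [h2] at h1
    exact top_le_iff.1 h1

/-- **The index of a proper subgroup.** -/
theorem main (h3 : (3 : F) = 0) (hq : 9 ≤ Nat.card F) (hs : IsSimpleGroup ↥(chevG2.group F))
    (H : Subgroup ↥(chevG2.group F)) (hH : H ≠ ⊤) :
    Nat.card F ^ 2 * (Nat.card F ^ 2 - 1) ≤ H.index := by
  classical
  have := Fintype.ofFinite F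
  have hfin : Finite (GL chevG2.Idx F) := inferInstance
  have hfinG : Finite ↥(chevG2.group F) := inferInstance
  have hchar : CharP F 3 := by
    have : Fact (Nat.Prime 3) := ⟨Nat.prime_three⟩
    have h1 : ((3 : ℕ) : F) = 0 := by exact_mod_cast h3
    obtain ⟨r, hr⟩ := CharP.exists F
    have h2 : r ∣ 3 := (CharP.cast_eq_zero_iff F r 3).1 h1
    rcases (Nat.dvd_prime Nat.prime_three).1 h2 with h4 | h4
    · exact absurd h4 (CharP.char_ne_one F r)
    · rwa [← h4]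
  have : Fact (Nat.Prime 3) := ⟨Nat.prime_three⟩
  have hcube : ∀ x : F, ∃ y : F, y ^ 3 = x := fun x => hperf 3 x
  obtain ⟨t₀, ht₀, ht₁⟩ : ∃ t : F, t ≠ 0 ∧ t ^ 2 ≠ 1 := by
    by_contra hcon
    push Not at hcon
    have h1 : (Finset.univ : Finset F) ⊆ {0, 1, -1} := by
      intro t _
      by_cases h0 : t = 0
      · simp [h0]
      · have h2 : t = 1 ∨ t = -1 := by
          have h3 : (t - 1) * (t + 1) = 0 := by linear_combination hcon t h0
          rcases mul_eq_zero.1 h3 with h3 | h3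
          · exact Or.inl (sub_eq_zero.1 h3)
          · exact Or.inr (eq_neg_of_add_eq_zero_left h3)
        rcases h2 with h2 | h2 <;> simp [h2]
    have h2 := Finset.card_le_card h1
    rw [Finset.card_univ, ← Nat.card_eq_fintype_card] at h2
    have h4 : ({0, 1, -1} : Finset F).card ≤ 3 := Finset.card_le_three
    omega
  -- the good point
  obtain ⟨g, hg1, hg2⟩ : ∃ g, ¬ CfG2Frame.PP H 11 g ∧ ¬ CfG2Frame.PP H 9 g := by
    by_contra hcon
    push Not at hcon
    exact hH (eq_top_of_PP hs H (top_of h3 hcube ht₀ ht₁ H fun g => or_iff_not_imp_left.2 fun h => hcon g h))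
  unfold CfG2Frame.PP at hg1 hg2
  push Not at hg1 hg2
  obtain ⟨t, ht⟩ := hg1
  obtain ⟨s, hs'⟩ := hg2
  letI : MulAction (EE F) (↥(chevG2.group F) ⧸ H) := MulAction.compHom _ (ii h3)
  haveI : Fintype (↥(chevG2.group F) ⧸ H) := Fintype.ofFinite _
  have hcomp : ∀ (e : EE F) (ω : ↥(chevG2.group F) ⧸ H), e • ω = ii h3 e • ω := fun _ _ => rfl
  have hstab : ∀ x : ↥(chevG2.group F), x • (QuotientGroup.mk g : ↥(chevG2.group F) ⧸ H) = QuotientGroup.mk g →
      g⁻¹ * x * g ∈ H := by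
    intro x hx
    have h1 : (QuotientGroup.mk (x * g) : ↥(chevG2.group F) ⧸ H) = QuotientGroup.mk g := hx
    have h2 := QuotientGroup.eq.1 h1.symm
    rwa [← mul_assoc] at h2
  obtain ⟨μ, hμ1, hμ2, hμ3⟩ := exists_char2
    (MulAction.stabilizer (EE F) (QuotientGroup.mk g : ↥(chevG2.group F) ⧸ H)) (x := sg 2 t) (y := sg 1 s)
    (fun h => ht (by
      have h1 := hstab (ii h3 (sg 2 t)) h
      rwa [ii_sg] at h1))
    (fun h => hs' (by
      have h1 := hstab (ii h3 (sg 1 s)) h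
      rwa [ii_sg] at h1))
  obtain ⟨ch, hch⟩ := exists_ch F
  obtain ⟨β, rfl⟩ := mu_surjective hch μ
  have hβ : β = ![β 0, β 1, β 2] := by
    funext k
    fin_cases k <;> rfl
  have hβ1 : β 1 ≠ 0 := by
    intro h
    apply hμ3
    rw [mu_sg, h, zero_mul, ofAdd_zero, map_one]
  -- the weight is positive
  have hW : W (↥(chevG2.group F) ⧸ H) (mu ch β) ≠ 0 := by
    unfold W
    intro hsum0
    have hz := (Finset.sum_eq_zero_iff.1 hsum0) (QuotientGroup.mk g) (Finset.mem_univ _)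
    rw [H934.Burn.wt_pos] at hz
    · exact Nat.card_pos.ne' hz
    · intro e he
      exact congrArg Units.val (hμ1 e he)
  have hWsq := W_sq_ge hcomp hW (Cg (ext h3)) (iC (ext h3)) (coe_iC (ext h3)) (hypE (ext h3) (a0 := t) hμ2)
  rw [card_Cg, card_EE, Nat.card_fun, Nat.card_eq_fintype_card (α := Fin 2), Fintype.card_fin] at hWsq
  set q := Nat.card F with hqd
  have hW4 : q ^ 4 ≤ W (↥(chevG2.group F) ⧸ H) (mu ch β) := by
    have h2 : (q ^ 4) ^ 2 ≤ W (↥(chevG2.group F) ⧸ H) (mu ch β) ^ 2 := by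
      calc (q ^ 4) ^ 2 = q ^ 2 * q ^ 3 * q ^ 3 := by ring
        _ ≤ _ := hWsq
    exact (Nat.pow_le_pow_iff_left (by norm_num)).1 h2
  -- the sum
  let lam : (sgh F).range →* ℂˣ := (mu ch β).comp (sgh F).range.subtype
  have hl : lam ≠ 1 := by
    intro h
    apply hμ2
    have h1 : lam ⟨sg 2 t, Multiplicative.ofAdd t, rfl⟩ = 1 := by rw [h]; rfl
    exact h1
  have ht0 : t ≠ 0 := by
    rintro rfl
    apply hμ2
    rw [mu_sg, mul_zero, ofAdd_zero, map_one]
  have hc : ∀ z ∈ (sgh F).range, z ≠ 1 → H934.Burn.fx (↥(chevG2.group F) ⧸ H) z =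
      H934.Burn.fx (↥(chevG2.group F) ⧸ H) (sg 2 t : EE F) := by
    rintro _ ⟨a, rfl⟩ ha
    have h1 : IsConj (xe hG2 11 (Multiplicative.toAdd a)) (xe hG2 11 t) := by
      refine z_isConj0 hG2 tab3_ok.th_lt tab3_ok.p_lt tab3_ok.p_th _ _ ?_ ht0
      rintro h0
      apply ha
      have : a = 1 := h0
      rw [this, map_one]
    have h2 : ∀ a : F, H934.Burn.fx (↥(chevG2.group F) ⧸ H) (sg 2 a : EE F) =
        H934.Burn.fx (↥(chevG2.group F) ⧸ H) (xe hG2 11 a) := by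
      intro a
      have h4 : ii h3 (sg 2 a) = xe hG2 11 a := ii_sg h3 2 a
      rw [← h4]
      rfl
    have h5 : sgh F a = sg 2 (Multiplicative.toAdd a) := rfl
    rw [h5, h2, h2]
    exact H934.Burn.fx_of_isConj h1
  set O : Finset (EE F →* ℂˣ) := (Finset.univ.filter fun p : F × F => p ≠ 0).image
    fun p => mu ch ![p.1, p.2, β 2] with hO
  have hsum := sum_le (↥(chevG2.group F) ⧸ H) (sgh F).range lam hl _ hc O (by
    rintro μ hμ ⟨_, a, rfl⟩
    rw [hO, Finset.mem_image] at hμ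
    obtain ⟨p, -, rfl⟩ := hμ
    have h2 : lam ⟨sgh F a, a, rfl⟩ = mu ch β (sg 2 (Multiplicative.toAdd a)) := rfl
    rw [h2, mu_sg]
    exact mu_sg _ 2 _)
  have hconj : ∀ (g : ↥(chevG2.group F)) (φ : EE F ≃* EE F), (∀ e, ii h3 (φ e) = g * ii h3 e * g⁻¹) →
      ∀ μ, W (↥(chevG2.group F) ⧸ H) (μ.comp φ.toMonoidHom) = W (↥(chevG2.group F) ⧸ H) μ :=
    fun g φ hφ μ => W_congr hcomp hφ μ
  have hWeq : ∀ μ ∈ O, W (↥(chevG2.group F) ⧸ H) μ = W (↥(chevG2.group F) ⧸ H) (mu ch β) := by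
    intro μ hμ
    rw [hO, Finset.mem_image] at hμ
    obtain ⟨p, hp, rfl⟩ := hμ
    rw [Finset.mem_filter] at hp
    rw [w_orbit h3 ch hconj (β 2) (b := p.1) (c := p.2) (by
      by_contra hcon
      push Not at hcon
      exact hp.2 (Prod.ext hcon.1 hcon.2))]
    conv_rhs => rw [hβ]
    exact (w_orbit h3 ch hconj (β 2) (Or.inr hβ1)).symm
  rw [Finset.sum_congr rfl hWeq, Finset.sum_const, smul_eq_mul, card_Z, card_EE, ← hqd] at hsum
  have hcO : O.card = q ^ 2 - 1 := by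
    rw [hO, Finset.card_image_of_injective]
    · have h1 : (Finset.univ.filter fun p : F × F => p ≠ 0) = Finset.univ.erase 0 := by
        ext p; simp
      rw [h1, Finset.card_erase_of_mem (Finset.mem_univ _), Finset.card_univ, Fintype.card_prod, hqd,
        Nat.card_eq_fintype_card, sq]
    · intro p p' hpp
      have h1 := mu_injective hch hpp
      exact Prod.ext (congrFun h1 0) (congrFun h1 1)
  rw [hcO] at hsum
  have hidx : Nat.card (↥(chevG2.group F) ⧸ H) = H.index := rfl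
  rw [hidx] at hsum
  have h5 : q ^ 3 * (q ^ 2 * (q ^ 2 - 1)) ≤ q ^ 3 * H.index := by
    calc q ^ 3 * (q ^ 2 * (q ^ 2 - 1)) = (q ^ 2 - 1) * q ^ 4 * q := by ring
      _ ≤ (q ^ 2 - 1) * W (↥(chevG2.group F) ⧸ H) (mu ch β) * q :=
          Nat.mul_le_mul_right _ (Nat.mul_le_mul_left _ hW4)
      _ ≤ q ^ 3 * (H.index - _) := hsum
      _ ≤ _ := Nat.mul_le_mul_left _ (Nat.sub_le _ _)
  exact Nat.le_of_mul_le_mul_left h5 (by positivity)

end Main

end Cfsg.Agent.H430.CfG2Three
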