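import Cfsg.Agent.H430.CfOut
import Cfsg.Agent.H168.PermSix
import Cfsg.Agent.S2119
import Cfsg.Prelude.Def_Classical

/-!
# Row: alternating groups
-/

set_option autoImplicit false

namespace Cfsg.Agent.H430.CfAlt

open Cfsg Cfsg.Agent.H430.CfBase Equiv

universe u

theorem le_index {n : ℕ} (hn : 5 ≤ n) (L : Subgroup (alternatingGroup (Fin n))) (hL : L ≠ ⊤) : n ≤ L.index := by
  have h1 := Cfsg.Agent.H168.NoSolv.index_le_of_alt hn L hL
  by_contra hlt
  obtain ⟨k, rfl⟩ : ∃ k, n = k + 1 := ⟨n - 1, by omega⟩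
  have h2 : L.index.factorial ≤ k.factorial := Nat.factorial_le (by omega)
  rw [Nat.factorial_succ] at h1
  have h3 := Nat.factorial_pos k
  nlinarith

theorem hasInv {n : ℕ} (hn : 5 ≤ n) (h6 : n ≠ 6) : HasInv ↥(alternatingGroup (Fin n)) n := by
  have : MulAction.IsPretransitive ↥(alternatingGroup (Fin n)) (Fin n) :=
    alternatingGroup.isPretransitive_of_three_le_card (Fin n) (by simp; omega)
  have hnt : Nontrivial (Fin n) := Fin.nontrivial_iff_two_le.2 (by omega)
  refine HasInv.of_action (Ω := Fin n) hnt (by simp) fun α => ?_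
  obtain ⟨s, hs⟩ := (Cfsg.Agent.S2119.result n (by omega) h6).2 α
  refine ⟨s, s.injective, fun g ω => ?_⟩
  rw [← hs]
  show s ((g : Perm (Fin n)) ω) = ((MulAut.conjNormal s g : ↥(alternatingGroup (Fin n))) : Perm (Fin n)) (s ω)
  rw [MulAut.conjNormal_apply, Perm.mul_apply, Perm.mul_apply]
  show s ((g : Perm (Fin n)) ω) = s ((g : Perm (Fin n)) (s.symm (s ω)))
  rw [Equiv.symm_apply_apply]

theorem row_ne {n : ℕ} (hn : 5 ≤ n) (h6 : n ≠ 6) : Row ↥(alternatingGroup (Fin n)) := by
  refine Row.of_hasInv (hasInv hn h6) fun L hL => ?_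
  have := le_index hn L hL
  nlinarith

theorem row_six : Row ↥(alternatingGroup (Fin 6)) := by
  have hs : IsSimpleGroup (alternatingGroup (Fin 6)) := alternatingGroup.isSimpleGroup (by simp)
  have : Fact (Nat.Prime 3) := ⟨Nat.prime_three⟩
  have hcard : Nat.card ↥(alternatingGroup (Fin 6)) = 360 := by
    rw [nat_card_alternatingGroup, Nat.card_fin]; rfl
  obtain ⟨P⟩ : Nonempty (Sylow 3 ↥(alternatingGroup (Fin 6))) := inferInstance
  have hP : Nat.card P = 9 := by
    have h1 := P.card_eq_multiplicity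
    rw [hcard] at h1
    rw [h1]
    have : (360 : ℕ).factorization 3 = 2 := by
      rw [show (360 : ℕ) = 3 ^ 2 * 40 by norm_num, Nat.factorization_mul (by norm_num) (by norm_num),
        Nat.prime_three.factorization_pow]
      simp [Nat.factorization_eq_zero_of_not_dvd]
    rw [this]; norm_num
  have hPidx : (P : Subgroup ↥(alternatingGroup (Fin 6))).index = 40 := by
    have h1 := (P : Subgroup ↥(alternatingGroup (Fin 6))).card_mul_index
    rw [hcard] at h1
    have h2 : Nat.card (P : Subgroup ↥(alternatingGroup (Fin 6))) = 9 := hP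
    rw [h2] at h1
    omega
  have hcomm : ∀ a ∈ (P : Subgroup ↥(alternatingGroup (Fin 6))), ∀ b ∈ (P : Subgroup ↥(alternatingGroup (Fin 6))),
      a * b = b * a := by
    have h1 : IsMulCommutative ↥(P : Subgroup ↥(alternatingGroup (Fin 6))) :=
      IsPGroup.isMulCommutative_of_card_eq_prime_sq (p := 3) (hP.trans (by norm_num))
    intro a ha b hb
    exact congrArg Subtype.val (h1.is_comm.comm ⟨a, ha⟩ ⟨b, hb⟩)
  set N := Subgroup.normalizer ((P : Subgroup ↥(alternatingGroup (Fin 6))) : Set ↥(alternatingGroup (Fin 6))) with hN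
  have hle : (P : Subgroup ↥(alternatingGroup (Fin 6))) ≤ N := Subgroup.le_normalizer
  have hdvd : N.index ∣ 40 := hPidx ▸ Subgroup.index_dvd_of_le hle
  have hne40 : N.index ≠ 40 := by
    intro h40
    have h1 : N = (P : Subgroup ↥(alternatingGroup (Fin 6))) := by
      refine (Subgroup.eq_of_le_of_card_ge hle ?_).symm
      have h2 := N.card_mul_index
      rw [h40, hcard] at h2
      have h3 : Nat.card (P : Subgroup ↥(alternatingGroup (Fin 6))) = 9 := hP
      omega
    have h2 : Subgroup.normalizer ((P : Subgroup ↥(alternatingGroup (Fin 6))) : Set ↥(alternatingGroup (Fin 6))) ≤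
        Subgroup.centralizer ((P : Subgroup ↥(alternatingGroup (Fin 6))) : Set ↥(alternatingGroup (Fin 6))) := by
      rw [← hN, h1]
      intro x hx
      rw [Subgroup.mem_centralizer_iff]
      intro y hy
      exact hcomm y hy x hx
    have h3 := MonoidHom.not_dvd_card_ker_transferSylow P h2
    have h4 := (MonoidHom.ker_transferSylow_isComplement' P h2).index_eq_card
    rcases Subgroup.Normal.eq_bot_or_eq_top (inferInstance : (MonoidHom.transferSylow P h2).ker.Normal) with h | h
    · rw [h, Subgroup.card_bot, hPidx] at h4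
      omega
    · rw [h, Subgroup.card_top, hcard] at h3
      exact h3 ⟨120, by norm_num⟩
  have hNle : N.index ≤ 36 := by
    have h1 : N.index ≤ 40 := Nat.le_of_dvd (by norm_num) hdvd
    obtain ⟨c, hc⟩ := hdvd
    by_contra hlt
    have h2 : N.index = 37 ∨ N.index = 38 ∨ N.index = 39 := by omega
    rcases h2 with h2 | h2 | h2 <;> rw [h2] at hc <;> omega
  refine Row.of_sylow P ?_ fun L hL => ?_
  · intro htop
    have hn : (P : Subgroup ↥(alternatingGroup (Fin 6))).Normal := Subgroup.normalizer_eq_top_iff.1 htop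
    rcases hs.eq_bot_or_eq_top_of_normal _ hn with h | h
    · have h5 : Nat.card (P : Subgroup ↥(alternatingGroup (Fin 6))) = 9 := hP
      rw [h, Subgroup.card_bot] at h5
      omega
    · have h5 : Nat.card (P : Subgroup ↥(alternatingGroup (Fin 6))) = 9 := hP
      rw [h, Subgroup.card_top, hcard] at h5
      omega
  · have := le_index (by norm_num) L hL
    have h2 : 6 ^ 2 ≤ L.index ^ 2 := Nat.pow_le_pow_left this 2
    exact hNle.trans h2

theorem row_alt {S : Type u} [Group S] (h : IsAlternating S) : Row S := by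
  obtain ⟨n, hn, e⟩ := h
  refine Row.of_nonempty e ?_
  rcases eq_or_ne n 6 with rfl | h6
  · exact row_six
  · exact row_ne hn h6

end Cfsg.Agent.H430.CfAlt
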