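import Cfsg.Agent.H430.CfOut
import Cfsg.Agent.ClassicalGeometry.SympAutTwo
import Cfsg.Agent.ClassicalGeometry.SympAutExists
import Cfsg.Agent.ClassicalGeometry.SympAutOddA
import Cfsg.Agent.LieClassical.SympCenter
import Cfsg.Agent.H554.Base
import Cfsg.Agent.S2141
import Cfsg.Agent.S2142
import Cfsg.Agent.S0245
import Cfsg.Agent.S0246

/-!
# Row: symplectic groups
-/

set_option autoImplicit false

namespace Cfsg.Agent.H430.CfPSp

open Cfsg Cfsg.Agent.H430.CfBase Cfsg.Agent.ClassicalGeometry.SympBasic Cfsg.Agent.ClassicalGeometry.SympAutSemi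
open scoped Matrix LinearAlgebra.Projectivization

universe u

variable {F : Type u} [Field F] {m : ℕ}

/-- the stabiliser of the line of `v` in `Sp` -/
def st (v : Fin m ⊕ Fin m → F) : Subgroup (Matrix.symplecticGroup (Fin m) F) where
  carrier := {A | ∃ a : F, a ≠ 0 ∧ (A : Matrix (Fin m ⊕ Fin m) (Fin m ⊕ Fin m) F) *ᵥ v = a • v}
  mul_mem' := by
    rintro A B ⟨a, ha, h1⟩ ⟨b, hb, h2⟩
    refine ⟨b * a, mul_ne_zero hb ha, ?_⟩
    rw [coe_mul_mulVec, h2, Matrix.mulVec_smul, h1, smul_smul]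
  one_mem' := ⟨1, one_ne_zero, by rw [Submonoid.coe_one, Matrix.one_mulVec, one_smul]⟩
  inv_mem' := by
    rintro A ⟨a, ha, h1⟩
    refine ⟨a⁻¹, inv_ne_zero ha, ?_⟩
    have h2 : ((A⁻¹ * A : Matrix.symplecticGroup (Fin m) F) : Matrix (Fin m ⊕ Fin m) (Fin m ⊕ Fin m) F) *ᵥ v = v := by
      rw [inv_mul_cancel, Submonoid.coe_one, Matrix.one_mulVec]
    rw [coe_mul_mulVec, h1, Matrix.mulVec_smul] at h2
    rw [← h2, smul_smul, inv_mul_cancel₀ ha, one_smul, h2]

theorem mem_st {v : Fin m ⊕ Fin m → F} {A : Matrix.symplecticGroup (Fin m) F} :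
    A ∈ st v ↔ ∃ a : F, a ≠ 0 ∧ (A : Matrix (Fin m ⊕ Fin m) (Fin m ⊕ Fin m) F) *ᵥ v = a • v := Iff.rfl

theorem mulVec_ne_zero (A : Matrix.symplecticGroup (Fin m) F) {v : Fin m ⊕ Fin m → F} (hv : v ≠ 0) :
    (A : Matrix (Fin m ⊕ Fin m) (Fin m ⊕ Fin m) F) *ᵥ v ≠ 0 := by
  intro h
  apply hv
  have h2 : ((A⁻¹ * A : Matrix.symplecticGroup (Fin m) F) : Matrix (Fin m ⊕ Fin m) (Fin m ⊕ Fin m) F) *ᵥ v = v := by
    rw [inv_mul_cancel, Submonoid.coe_one, Matrix.one_mulVec]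
  rw [← h2, coe_mul_mulVec, h, Matrix.mulVec_zero]

theorem index_st_le [Finite F] {v : Fin m ⊕ Fin m → F} (hv : v ≠ 0) :
    (st v).index ≤ Nat.card (ℙ F (Fin m ⊕ Fin m → F)) := by
  have : Finite (ℙ F (Fin m ⊕ Fin m → F)) := Quotient.finite _
  let φ : Matrix.symplecticGroup (Fin m) F ⧸ st v → ℙ F (Fin m ⊕ Fin m → F) := fun x =>
    Projectivization.mk F (((Quotient.out x : Matrix.symplecticGroup (Fin m) F) :
      Matrix (Fin m ⊕ Fin m) (Fin m ⊕ Fin m) F) *ᵥ v) (mulVec_ne_zero _ hv)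
  refine Nat.card_le_card_of_injective φ ?_
  intro x y hxy
  have h1 := (Projectivization.mk_eq_mk_iff F _ _ (mulVec_ne_zero _ hv) (mulVec_ne_zero _ hv)).1 hxy
  obtain ⟨a, ha⟩ := h1
  rw [← Quotient.out_eq x, ← Quotient.out_eq y]
  symm
  refine QuotientGroup.eq.2 ?_
  refine ⟨(a : F), a.ne_zero, ?_⟩
  rw [coe_mul_mulVec, ← ha, Units.smul_def, Matrix.mulVec_smul, ← coe_mul_mulVec, inv_mul_cancel, Submonoid.coe_one,
    Matrix.one_mulVec]

theorem card_points [Finite F] : Nat.card (ℙ F (Fin m ⊕ Fin m → F)) = (Nat.card F ^ (2 * m) - 1) / (Nat.card F - 1) := by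
  have h1 := Projectivization.card F (Fin m ⊕ Fin m → F)
  have h2 : Nat.card (Fin m ⊕ Fin m → F) = Nat.card F ^ (2 * m) := by
    rw [Nat.card_fun, Nat.card_sum, Nat.card_fin, ← two_mul]
  have h3 : 1 < Nat.card F := Finite.one_lt_card
  rw [h2] at h1
  rw [h1, Nat.mul_div_cancel _ (by omega)]

/-- the stabiliser of the line of `v` in `PSp` -/
def ps (v : Fin m ⊕ Fin m → F) : Subgroup (PSp m F) := (st v).map (QuotientGroup.mk' (Subgroup.center _))

theorem index_ps_le [Finite F] {v : Fin m ⊕ Fin m → F} (hv : v ≠ 0) :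
    (ps v).index ≤ (Nat.card F ^ (2 * m) - 1) / (Nat.card F - 1) := by
  have : Finite (Matrix.symplecticGroup (Fin m) F) := Subtype.finite
  rw [← card_points]
  refine le_trans (Nat.le_of_dvd ?_ (Subgroup.index_map_dvd _ (QuotientGroup.mk'_surjective _))) (index_st_le hv)
  exact Nat.pos_of_ne_zero Subgroup.FiniteIndex.index_ne_zero

theorem center_le_st {v : Fin m ⊕ Fin m → F} (hv : v ≠ 0) {z : Matrix.symplecticGroup (Fin m) F}
    (hz : z ∈ Subgroup.center (Matrix.symplecticGroup (Fin m) F)) : z ∈ st v := by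
  obtain ⟨a, ha⟩ := (Cfsg.Agent.LieClassical.SympCenter.mem_center_iff m z).1 hz
  have h1 : (z : Matrix (Fin m ⊕ Fin m) (Fin m ⊕ Fin m) F) *ᵥ v = a • v := by
    rw [ha, Matrix.smul_mulVec, Matrix.one_mulVec]
  refine ⟨a, ?_, h1⟩
  rintro rfl
  rw [zero_smul] at h1
  exact mulVec_ne_zero z hv h1

theorem mk_mem_ps {v : Fin m ⊕ Fin m → F} (hv : v ≠ 0) {A : Matrix.symplecticGroup (Fin m) F} :
    (QuotientGroup.mk A : PSp m F) ∈ ps v ↔ A ∈ st v := by
  constructor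
  · rintro ⟨B, hB, hBA⟩
    have h1 : B⁻¹ * A ∈ Subgroup.center (Matrix.symplecticGroup (Fin m) F) := QuotientGroup.eq.1 hBA
    have h2 := (st v).mul_mem hB (center_le_st hv h1)
    rwa [mul_inv_cancel_left] at h2
  · intro h
    exact ⟨A, h, rfl⟩

theorem ps_ne_top (hm : 1 ≤ m) : ∃ v : Fin m ⊕ Fin m → F, v ≠ 0 ∧ ps v ≠ ⊤ := by
  set v : Fin m ⊕ Fin m → F := Pi.single (Sum.inl ⟨0, hm⟩) 1 with hv
  set w : Fin m ⊕ Fin m → F := Pi.single (Sum.inr ⟨0, hm⟩) 1 with hw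
  have hv0 : v ≠ 0 := by
    intro h
    have := congrFun h (Sum.inl ⟨0, hm⟩)
    rw [hv, Pi.single_eq_same] at this
    exact one_ne_zero this
  have hw0 : w ≠ 0 := by
    intro h
    have := congrFun h (Sum.inr ⟨0, hm⟩)
    rw [hw, Pi.single_eq_same] at this
    exact one_ne_zero this
  refine ⟨v, hv0, fun htop => ?_⟩
  obtain ⟨A, -, hA⟩ := exists_transvGroup_mulVec_eq hv0 hw0
  have h1 : (QuotientGroup.mk A : PSp m F) ∈ ps v := by rw [htop]; exact Subgroup.mem_top _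
  obtain ⟨a, ha, h2⟩ := (mk_mem_ps hv0).1 h1
  rw [hA] at h2
  have h3 := congrFun h2 (Sum.inr ⟨0, hm⟩)
  rw [hw, hv, Pi.single_eq_same, Pi.smul_apply, Pi.single_eq_of_ne (by simp), smul_zero] at h3
  exact one_ne_zero h3

/-- semisimilitudes map the stabiliser of a point to one -/
theorem map_ps [Finite F] (g : semiSim m F) {v : Fin m ⊕ Fin m → F} (hv : v ≠ 0) :
    ∃ s : PSp m F, (ps v).map (Psi m F g).toMonoidHom = (ps v).map (MulAut.conj s).toMonoidHom := by
  have : Finite (Matrix.symplecticGroup (Fin m) F) := Subtype.finite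
  have : Finite (PSp m F) := inferInstance
  obtain ⟨φ, l, hl, hg⟩ := g.2
  have hg0 : g.1 0 = 0 := by
    have := hg.1 0 0
    rw [add_zero] at this
    exact left_eq_add.1 this
  have hgv : g.1 v ≠ 0 := fun h => hv (g.1.injective (h.trans hg0.symm))
  obtain ⟨s, -, hs⟩ := exists_transvGroup_mulVec_eq hv hgv
  refine ⟨QuotientGroup.mk s, ?_⟩
  refine Subgroup.eq_of_le_of_card_ge ?_ (le_of_eq ?_)
  · rintro _ ⟨_, ⟨A, ⟨a, ha, hA⟩, rfl⟩, rfl⟩
    have h1 : rho m F (conjHom m F g A) (g.1 v) = φ a • g.1 v := by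
      rw [rho_conjHom]
      show g.1 (rho m F A (g.1⁻¹ (g.1 v))) = _
      rw [perm_inv_apply_self, rho_apply, hA, hg.2.1]
    rw [rho_apply] at h1
    refine ⟨QuotientGroup.mk (s⁻¹ * conjHom m F g A * s), ?_, ?_⟩
    · refine (mk_mem_ps hv).2 ⟨φ a, by simpa using ha, ?_⟩
      rw [coe_mul_mulVec, hs, coe_mul_mulVec, h1, Matrix.mulVec_smul, ← hs, ← coe_mul_mulVec, inv_mul_cancel,
        Submonoid.coe_one, Matrix.one_mulVec]
    · show MulAut.conj (QuotientGroup.mk s : PSp m F) (QuotientGroup.mk (s⁻¹ * conjHom m F g A * s)) =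
        Psi m F g (QuotientGroup.mk A)
      rw [Psi_mk, MulAut.conj_apply, ← QuotientGroup.mk_inv, ← QuotientGroup.mk_mul, ← QuotientGroup.mk_mul]
      congr 1
      group
  · rw [← Nat.card_congr ((ps v).equivMapOfInjective (Psi m F g).toMonoidHom (Psi m F g).injective).toEquiv,
      ← Nat.card_congr ((ps v).equivMapOfInjective (MulAut.conj (QuotientGroup.mk s : PSp m F)).toMonoidHom
        (MulAut.conj _).injective).toEquiv]

theorem hasInv [Finite F] (hm : 2 ≤ m) (h : 3 ≤ m ∨ (2 : F) ≠ 0) :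
    HasInv (PSp m F) ((Nat.card F ^ (2 * m) - 1) / (Nat.card F - 1)) := by
  obtain ⟨v, hv, hne⟩ := ps_ne_top (F := F) (m := m) (by omega)
  refine ⟨ps v, hne, fun α => ?_, index_ps_le hv⟩
  obtain ⟨g, hg⟩ := Cfsg.Agent.ClassicalGeometry.SympAutExists.exists_semi hm α
    (Cfsg.Agent.ClassicalGeometry.SympAutOddA.recog hm h α)
  rw [← hg]
  exact map_ps g hv

theorem card_psp [Fintype F] (hm : 1 ≤ m) : Nat.card (PSp m F) * Nat.gcd 2 (Fintype.card F - 1) =
    Fintype.card F ^ (m ^ 2) * ∏ i ∈ Finset.range m, (Fintype.card F ^ (2 * (i + 1)) - 1) := by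
  have : Finite (Matrix.symplecticGroup (Fin m) F) := Subtype.finite
  have h1 := Cfsg.Agent.S0245.result (F := F) rfl m
  have h2 := Cfsg.Agent.S0246.result (F := F) rfl m hm
  have h3 := Subgroup.card_eq_card_quotient_mul_card_subgroup (Subgroup.center (Matrix.symplecticGroup (Fin m) F))
  rw [h1, h2] at h3
  exact h3.symm

/-- `PSp_4(q)`, `q` even -/
theorem row_two [Fintype F] (hs : IsSimpleGroup (PSp 2 F)) (hq : 3 ≤ Fintype.card F) (h2 : (2 : F) = 0) :
    Row (PSp 2 F) := by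
  have : Finite (Matrix.symplecticGroup (Fin 2) F) := Subtype.finite
  have : Finite (PSp 2 F) := inferInstance
  have : Fact (Nat.Prime 2) := ⟨Nat.prime_two⟩
  have hchar : CharP F 2 := CharTwo.of_one_ne_zero_of_two_eq_zero one_ne_zero h2
  obtain ⟨f, -, hf⟩ := FiniteField.card F 2
  have hf0 : (f : ℕ) ≠ 0 := f.pos.ne'
  have heven : 2 ∣ Fintype.card F := by rw [hf]; exact dvd_pow_self 2 hf0
  have hcard := card_psp (F := F) (m := 2) (by norm_num)
  have hg : Nat.gcd 2 (Fintype.card F - 1) = 1 := by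
    rw [Nat.coprime_iff_gcd_eq_one.symm, Nat.coprime_comm, Nat.coprime_two_right]
    obtain ⟨c, hc⟩ := heven
    exact ⟨c - 1, by omega⟩
  rw [hg, mul_one] at hcard
  simp only [Finset.prod_range_succ, Finset.prod_range_zero, one_mul, zero_add, mul_one] at hcard
  norm_num at hcard
  set q := Fintype.card F with hqdef
  obtain ⟨P⟩ : Nonempty (Sylow 2 (PSp 2 F)) := inferInstance
  have hPdvd : q ^ 4 ∣ Nat.card P := by
    rw [hf, ← pow_mul]
    apply P.pow_dvd_card_of_pow_dvd_card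
    rw [hcard, hf, ← pow_mul]
    exact Dvd.intro _ rfl
  have hPle : q ^ 4 ≤ Nat.card P := Nat.le_of_dvd Nat.card_pos hPdvd
  have hidx := (P : Subgroup (PSp 2 F)).card_mul_index
  rw [hcard] at hidx
  have hq4 : 0 < q ^ 4 := pow_pos (by omega) 4
  have hPidx : (P : Subgroup (PSp 2 F)).index ≤ (q ^ 2 - 1) * (q ^ 4 - 1) := by
    have h1 : q ^ 4 * (P : Subgroup (PSp 2 F)).index ≤ q ^ 4 * ((q ^ 2 - 1) * (q ^ 4 - 1)) := by
      rw [← hidx]
      exact Nat.mul_le_mul_right _ hPle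
    exact Nat.le_of_mul_le_mul_left h1 hq4
  have hodd : ¬ 2 ∣ q ^ 2 - 1 := by
    obtain ⟨c, hc⟩ := heven
    rw [hc]
    intro h
    have h1 : (2 * c) ^ 2 = 2 * (2 * c ^ 2) := by ring
    have h2 : 1 ≤ 2 * c ^ 2 := by
      have : 1 ≤ c ^ 2 := Nat.one_le_pow _ _ (by omega)
      omega
    rw [h1] at h
    omega
  refine Row.of_sylow P ?_ fun L hL => ?_
  · intro htop
    have hn : (P : Subgroup (PSp 2 F)).Normal := Subgroup.normalizer_eq_top_iff.1 htop
    rcases hs.eq_bot_or_eq_top_of_normal _ hn with h | h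
    · have h5 : Nat.card (P : Subgroup (PSp 2 F)) = 1 := by rw [h]; exact Subgroup.card_bot
      have h6 : 1 < q ^ 4 := Nat.one_lt_pow (by norm_num) (by omega)
      have h7 : q ^ 4 ≤ Nat.card (P : Subgroup (PSp 2 F)) := hPle
      omega
    · have h5 : Nat.card (P : Subgroup (PSp 2 F)) = Nat.card (PSp 2 F) := by rw [h]; exact Subgroup.card_top
      obtain ⟨k, hk⟩ := IsPGroup.iff_card.1 P.2
      have h6 : q ^ 2 - 1 ∣ 2 ^ k := by
        rw [← hk, show Nat.card P = Nat.card (P : Subgroup (PSp 2 F)) from rfl, h5, hcard]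
        exact ⟨q ^ 4 * (q ^ 4 - 1), by ring⟩
      obtain ⟨j, -, hj⟩ := (Nat.dvd_prime_pow Nat.prime_two).1 h6
      rcases Nat.eq_zero_or_pos j with rfl | hj0
      · have : 9 ≤ q ^ 2 := by nlinarith
        omega
      · exact hodd (hj ▸ dvd_pow_self 2 hj0.ne')
  · have h1 := (Cfsg.Agent.S2141.result (F := F) hqdef.symm 2 le_rfl hq (by
      rintro ⟨-, h3⟩
      rw [h3] at heven
      omega)).1 L hL
    refine le_trans (Nat.le_of_dvd (Nat.pos_of_ne_zero Subgroup.FiniteIndex.index_ne_zero)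
      (Subgroup.index_dvd_of_le Subgroup.le_normalizer)) (hPidx.trans (le_trans ?_ (Nat.pow_le_pow_left h1 2)))
    obtain ⟨n, hn⟩ : ∃ n, q = n + 1 := ⟨q - 1, by omega⟩
    rw [hn] at hq ⊢
    have e1 : ((n + 1) ^ (2 * 2) - 1) / (n + 1 - 1) = (n + 2) * (n ^ 2 + 2 * n + 2) := by
      rw [Nat.add_sub_cancel]
      apply Nat.div_eq_of_eq_mul_left (by omega)
      rw [Nat.sub_eq_iff_eq_add (Nat.one_le_pow _ _ (by omega))]
      ring
    have e2 : (n + 1) ^ 2 - 1 = n * (n + 2) := by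
      rw [Nat.sub_eq_iff_eq_add (Nat.one_le_pow _ _ (by omega))]
      ring
    have e3 : (n + 1) ^ 4 - 1 = n * (n + 2) * (n ^ 2 + 2 * n + 2) := by
      rw [Nat.sub_eq_iff_eq_add (Nat.one_le_pow _ _ (by omega))]
      ring
    rw [e1, e2, e3]
    have e4 : n * (n + 2) * (n * (n + 2) * (n ^ 2 + 2 * n + 2)) =
        (n + 2) ^ 2 * (n ^ 2 + 2 * n + 2) * n ^ 2 := by ring
    have e5 : ((n + 2) * (n ^ 2 + 2 * n + 2)) ^ 2 =
        (n + 2) ^ 2 * (n ^ 2 + 2 * n + 2) * (n ^ 2 + 2 * n + 2) := by ring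
    rw [e4, e5]
    exact Nat.mul_le_mul_left _ (by nlinarith)

theorem row [Fintype F] (hs : IsSimpleGroup (PSp m F)) (hm : 2 ≤ m) (hq : m = 2 → 3 ≤ Fintype.card F) :
    Row (PSp m F) := by
  have : Finite (Matrix.symplecticGroup (Fin m) F) := Subtype.finite
  have : Finite (PSp m F) := inferInstance
  by_cases hc : m = 2 ∧ (2 : F) = 0
  · obtain ⟨rfl, h2⟩ := hc
    exact row_two hs (hq rfl) h2
  have h : 3 ≤ m ∨ (2 : F) ≠ 0 := by
    by_cases h2 : (2 : F) = 0
    · left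
      have : m ≠ 2 := fun h => hc ⟨h, h2⟩
      omega
    · exact Or.inr h2
  refine Row.of_hasInv (hasInv hm h) fun L hL => ?_
  have hcF : 1 < Fintype.card F := Fintype.one_lt_card
  rw [Nat.card_eq_fintype_card]
  rcases Nat.lt_or_ge (Fintype.card F) 3 with hlt | hge
  · have hF : Fintype.card F = 2 := by omega
    have hm3 : 3 ≤ m := by
      rcases h with h | h
      · exact h
      · exfalso
        apply h
        have h6 := FiniteField.cast_card_eq_zero F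
        rw [hF] at h6
        exact_mod_cast h6
    have h1 := (Cfsg.Agent.S2142.result (F := F) hF m hm3).1 L hL
    refine le_trans ?_ (Nat.pow_le_pow_left h1 2)
    rw [hF]
    obtain ⟨k, rfl⟩ : ∃ k, m = k + 1 := ⟨m - 1, by omega⟩
    have h4 : 4 ≤ 2 ^ k := by
      calc 4 = 2 ^ 2 := by norm_num
        _ ≤ 2 ^ k := Nat.pow_le_pow_right (by norm_num) (by omega)
    have e1 : (2 ^ (2 * (k + 1)) - 1) / (2 - 1) = 2 ^ (2 * (k + 1)) - 1 := by norm_num
    have e2 : 2 ^ (2 * (k + 1)) = 4 * (2 ^ k) ^ 2 := by ring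
    have e3 : 2 ^ (k + 1) = 2 * 2 ^ k := by ring
    rw [e1, e2, Nat.add_sub_cancel, e3]
    set x := 2 ^ k with hx
    have e4 : 7 ≤ 2 * x - 1 := by omega
    calc 4 * x ^ 2 - 1 ≤ x ^ 2 * 7 ^ 2 := by nlinarith [Nat.sub_le (4 * x ^ 2) 1]
      _ ≤ x ^ 2 * (2 * x - 1) ^ 2 := Nat.mul_le_mul_left _ (Nat.pow_le_pow_left e4 2)
      _ = (x * (2 * x - 1)) ^ 2 := by ring
  · by_cases hexc : m = 2 ∧ Fintype.card F = 3
    · obtain ⟨rfl, hF⟩ := hexc
      have h1 := Cfsg.Agent.H554.card_dvd_factorial hL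
      have h2 := card_psp (F := F) (m := 2) (by norm_num)
      rw [hF] at h2 ⊢
      simp only [Finset.prod_range_succ, Finset.prod_range_zero, one_mul, zero_add, mul_one] at h2
      norm_num at h2
      have h3 : 7 ≤ L.index := by
        by_contra hlt
        have h4 : L.index.factorial ∣ (6 : ℕ).factorial := Nat.factorial_dvd_factorial (by omega)
        have h5 : Nat.card (PSp 2 F) ≤ (6 : ℕ).factorial := Nat.le_of_dvd (Nat.factorial_pos 6) (h1.trans h4)
        have h6 : (6 : ℕ).factorial = 720 := by decide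
        omega
      have h4 : 7 ^ 2 ≤ L.index ^ 2 := Nat.pow_le_pow_left h3 2
      norm_num at h4 ⊢
      omega
    · have h1 := (Cfsg.Agent.S2141.result (F := F) rfl m hm hge hexc).1 L hL
      have h2 : L.index ≤ L.index ^ 2 := Nat.le_self_pow two_ne_zero _
      exact h1.trans h2

theorem row_psp {S : Type u} [Group S] [IsSimpleGroup S] (h : IsPSp S) : Row S := by
  obtain ⟨F, _, _, m, hm, hq, ⟨e⟩⟩ := h
  exact Row.of_equiv e.symm (row (e.isSimpleGroup_congr.1 inferInstance) hm hq)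

end Cfsg.Agent.H430.CfPSp
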