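import Cfsg.Prelude.Def_Classification2
import Cfsg.Agent.H430.CfOut
import Cfsg.Agent.S2061
import Cfsg.Agent.S2066
import Cfsg.Agent.S2067
import Cfsg.Agent.S2072
import Cfsg.Agent.S2073
import Cfsg.Agent.S2074
import Cfsg.Agent.S2075
import Cfsg.Agent.S2078
import Cfsg.Agent.S2079
import Cfsg.Agent.S2081
import Cfsg.Agent.S2082
import Cfsg.Agent.S2062
import Cfsg.Agent.TypeM.OuterInvol

/-!
# Rows of S5880: sporadic groups with `|Out| = 2`
-/

set_option autoImplicit false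

namespace Cfsg.Agent.H430.CfSpor

open Cfsg Cfsg.Spor Cfsg.Agent.H430.CfBase

universe u

theorem ne_of_not_mem {T : Type*} [Group T] {β : MulAut T} (h : β ∉ (MulAut.conj : T →* MulAut T).range) (k : T) :
    β ≠ MulAut.conj k := fun h1 => h ⟨k, h1.symm⟩

theorem finite_of_out {T : Type*} [Group T] {G : Type*} [Group G] [Finite G] (e : Nonempty (G ≃* T)) : Finite T :=
  Finite.of_equiv G e.some.toEquiv

theorem row_m12 {G : Type u} [Group G] [Finite G] [IsSimpleGroup G] (h : IsoM12 G) : Row G := by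
  have hN : Nontrivial M12 := h.some.symm.toEquiv.nontrivial
  have hF : Finite M12 := finite_of_out h
  exact Row.of_card_out_two h S2061.result Cfsg.Agent.OddHalf.Table.OutMTwelve.al
    (ne_of_not_mem S2061.al_not_inner) Cfsg.Agent.OddHalf.Table.OutMTwelve.al_mul_al

theorem row_j2 {G : Type u} [Group G] [Finite G] [IsSimpleGroup G] (h : IsoJ2 G) : Row G := by
  have hN : Nontrivial J2 := h.some.symm.toEquiv.nontrivial
  have hF : Finite J2 := finite_of_out h
  have h1 : ∀ q, H55.OutGen.centerQuot H55.JTwo.al ≠ MulAut.conj q := fun q h => by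
    obtain ⟨k, rfl⟩ := QuotientGroup.mk_surjective q
    apply H55.JTwo.al_not_inner_mod k
    intro g
    have h2 := congrArg (fun f : MulAut (J2.Refl.W ⧸ Subgroup.center J2.Refl.W) => f (QuotientGroup.mk g)) h
    simp only [MulAut.conj_apply] at h2
    rw [H55.OutGen.centerQuot_mk, ← QuotientGroup.mk_mul, ← QuotientGroup.mk_inv, ← QuotientGroup.mk_mul, eq_comm,
      QuotientGroup.eq] at h2
    exact h2
  have h2 : ∀ x, H55.OutGen.centerQuot H55.JTwo.al (H55.OutGen.centerQuot H55.JTwo.al x) = x := by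
    intro x
    obtain ⟨k, rfl⟩ := QuotientGroup.mk_surjective x
    rw [H55.OutGen.centerQuot_mk, H55.OutGen.centerQuot_mk]
    congr 1
    apply Subtype.ext
    rw [H55.JTwo.al_coe, H55.JTwo.al_coe]
    have h3 := H55.JTwo.TH_sq
    have h4 := H55.JTwo.TH_inv
    rw [h4]
    calc H55.JTwo.TH * (H55.JTwo.TH * (k : Equiv.Perm _) * H55.JTwo.TH) * H55.JTwo.TH
        = (H55.JTwo.TH * H55.JTwo.TH) * (k : Equiv.Perm _) * (H55.JTwo.TH * H55.JTwo.TH) := by group
      _ = _ := by rw [h3, one_mul, mul_one]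
  refine Row.of_card_out_two h S2066.result
    ((J2.Group.equivJ2.symm.trans (H55.OutGen.centerQuot H55.JTwo.al)).trans J2.Group.equivJ2) (fun k h => ?_) ?_
  · apply h1 (J2.Group.equivJ2.symm k)
    ext x
    have h1 := congrArg (fun f : MulAut J2 => J2.Group.equivJ2.symm (f (J2.Group.equivJ2 x))) h
    simpa using h1
  · apply mul_self_eq_one
    intro x
    simp only [MulEquiv.trans_apply, MulEquiv.symm_apply_apply]
    rw [h2, MulEquiv.apply_symm_apply]

theorem row_j3 {G : Type u} [Group G] [Finite G] [IsSimpleGroup G] (h : IsoJ3 G) : Row G := by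
  obtain ⟨F, _, _, ω, hF, hω, e⟩ := h
  have hN : Nontrivial (J3 F ω) := e.some.symm.toEquiv.nontrivial
  have hfin : Finite (J3 F ω) := finite_of_out e
  have H := Cfsg.Agent.J3.Core.good_of_card hF hω
  refine Row.of_card_out_two e (S2067.result hF ω hω) (H55.OutGen.centerQuot (H55.JThree.phi hF H))
    (H55.OutGen.centerQuot_not_inner (H55.JThree.hom_center hF H) (H55.JThree.phi_not_inner hF H)) ?_
  apply mul_self_eq_one
  intro x
  obtain ⟨k, rfl⟩ := QuotientGroup.mk_surjective x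
  rw [H55.OutGen.centerQuot_mk, H55.OutGen.centerQuot_mk]
  congr 1
  exact Subtype.ext (H55.JThree.phiG_phiG hF H _)

theorem row_he {G : Type u} [Group G] [Finite G] [IsSimpleGroup G] (h : IsoHe G) : Row G := by
  have hN : Nontrivial He := h.some.symm.toEquiv.nontrivial
  have hF : Finite He := finite_of_out h
  exact Row.of_card_out_two h S2075.result H997.OutHe.rho H997.OutHe.rho_outer H997.OutHe.rho_sq

theorem row_suz {G : Type u} [Group G] [Finite G] [IsSimpleGroup G] (h : IsoSuz G) : Row G := by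
  have hN : Nontrivial Suz := h.some.symm.toEquiv.nontrivial
  have hF : Finite Suz := finite_of_out h
  exact Row.of_card_out_two h S2074.result KFacts.SuzRho.rho H997.OutSuz.rho_outer KFacts.SuzRho.rho_sq

theorem row_on {G : Type u} [Group G] [Finite G] [IsSimpleGroup G] (h : IsoON G) : Row G := by
  have hN : Nontrivial ON := h.some.symm.toEquiv.nontrivial
  have hF : Finite ON := finite_of_out h
  have hON : IsON ON := Cfsg.Agent.S1699.result
  exact Row.of_card_out_two h S2078.result (Cfsg.Agent.UGT.C.BalON.bt hON) (ne_of_not_mem (S2078.bt_not_inner hON))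
    (Cfsg.Agent.UGT.C.BalON.bt_bt hON)

theorem row_hs {G : Type u} [Group G] [Finite G] [IsSimpleGroup G] (h : IsoHS G) : Row G := by
  have hN : Nontrivial HS := h.some.symm.toEquiv.nontrivial
  have hF : Finite HS := finite_of_out h
  obtain ⟨D⟩ := KFacts.HS.exists_mod (L := HS) ⟨MulEquiv.refl _⟩
  refine Row.of_card_out_two h S2072.result (D.au Cfsg.Agent.HN.Pres.gz) (ne_of_not_mem fun h => ?_) ?_
  · exact Cfsg.Agent.HN.HS100.gz_not_mem (D.mem_K_of_inner h)
  · rw [← map_mul, Cfsg.Agent.HN.LocFromFusion.gz_sq, _root_.map_one]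

theorem row_mcl {G : Type u} [Group G] [Finite G] [IsSimpleGroup G] (h : IsoMcL G) : Row G := by
  have hN : Nontrivial McL := h.some.symm.toEquiv.nontrivial
  obtain ⟨hfin, hsimple, hcard, ⟨L⟩⟩ := TypeM.FactsMcL.exists_mt_mcl
  have hG : TypeM.FactsAut.Gen L := TypeM.FactsAut.gen L (Or.inl ⟨rfl, hcard⟩)
  have h2 : (MulAut.conj : McL →* MulAut McL).range.index = 2 := S2073.result
  obtain ⟨φ, h3, h4⟩ := TypeM.OuterInvol.exists_outer_involution L (Or.inl rfl) hG (by
    by_contra hne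
    push Not at hne
    have : (MulAut.conj : McL →* MulAut McL).range = ⊤ := by
      rw [eq_top_iff]; exact fun φ _ => hne φ
    rw [this, Subgroup.index_top] at h2
    omega)
  exact Row.of_card_out_two h S2073.result φ (ne_of_not_mem h3) h4

theorem fi24_sq (x : Fi24.Gen) : (PresentedGroup.of x : Fi24) * PresentedGroup.of x = 1 := by
  have hx : x ∈ coxNodes Fi24.edges := by cases x <;> decide
  have hl : coxLabel Fi24.edges x x = 1 := by cases x <;> decide
  have h : (PresentedGroup.mk (coxRelators Fi24.edges ∪ {r | r ∈ Fi24.extra}))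
      ((FreeGroup.of x * FreeGroup.of x) ^ coxLabel Fi24.edges x x) = 1 :=
    PresentedGroup.one_of_mem (Or.inl ⟨x, hx, x, hx, rfl⟩)
  rw [hl, pow_one, map_mul] at h
  exact h

theorem fi24_exists : ∃ t : Fi24, t ∉ commutator Fi24 ∧ t * t = 1 := by
  have F := Cfsg.Agent.KFacts.FiTF.frame
  by_contra hne
  push Not at hne
  have h2 := F.two
  have h1 : (commutator Fi24) = ⊤ := by
    rw [eq_top_iff, ← PresentedGroup.closure_range_of, Subgroup.closure_le]
    rintro _ ⟨x, rfl⟩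
    by_contra h3
    exact hne _ h3 (fi24_sq x)
  rw [h1, Subgroup.index_top] at h2
  omega

theorem row_fi24 {G : Type u} [Group G] [Finite G] [IsSimpleGroup G] (h : IsoFi24' G) : Row G := by
  have hN : Nontrivial Fi24' := h.some.symm.toEquiv.nontrivial
  have hfin : Finite Fi24' := finite_of_out h
  have F := Cfsg.Agent.KFacts.FiTF.frame
  obtain ⟨t, ht, htt⟩ := fi24_exists
  refine Row.of_card_out_two h S2081.result (MulAut.conjNormal t)
    (Cfsg.Agent.H997.OutCard.conjNormal_outer (K := commutator Cfsg.Spor.Fi24) ht fun c hc => ?_) ?_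
  · rcases F.cent c (fun r hr => hc r (F.EK (F.RE hr))) with h | h
    · rw [h]
      exact one_mem _
    · rw [h]
      exact F.EK (F.RE F.zR)
  · rw [← map_mul, htt, _root_.map_one]

section fi22
open Cfsg.Agent.R08 Cfsg.Agent.R08.LiftCls
open Cfsg.Agent.Fischer.Fi23Class (K)
open Cfsg.Agent.Fischer.Fi23Cover (kgen)
open Cfsg.Agent.R08.FiTwentyThree (pi zK S)

/-- an outer automorphism of `Fi22` of order 2 (S2079) -/
theorem fi22_exists : ∃ α : MulAut Cfsg.Spor.Fi22, (∀ x : Cfsg.Spor.Fi22, α ≠ MulAut.conj x) ∧ α * α = 1 := by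
  have hc := LemmaVInst.clsK
  obtain ⟨γ, h1, -, h3, h4⟩ := X4Gamma.exists_gamma
  have hz : γ zK = zK := h3
  have hker : pi.ker ≤ (pi.comp γ.toMonoidHom).ker := by
    intro y hy
    rw [MonoidHom.mem_ker] at hy ⊢
    show pi (γ y) = 1
    rcases (hc.ext.ker y).1 hy with h | h
    · rw [h, _root_.map_one, _root_.map_one]
    · rw [h, hz]
      exact hc.ext.mapz
  let f : Cfsg.Spor.Fi22 →* Cfsg.Spor.Fi22 := pi.liftOfSurjective hc.ext.surj ⟨pi.comp γ.toMonoidHom, hker⟩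
  have hf : ∀ y, f (pi y) = pi (γ y) := fun y =>
    MonoidHom.liftOfRightInverse_comp_apply pi _ _ ⟨pi.comp γ.toMonoidHom, hker⟩ y
  have hff : f.comp f = MonoidHom.id _ := by
    refine MonoidHom.ext fun x => ?_
    obtain ⟨y, rfl⟩ := hc.ext.surj x
    show f (f (pi y)) = pi y
    rw [hf, hf, h4]
  refine ⟨f.toMulEquiv f hff hff, fun x hx => ?_, mul_self_eq_one _ fun x => DFunLike.congr_fun hff x⟩
  obtain ⟨k, rfl⟩ := hc.ext.surj x
  have h5 : ∀ y, pi (γ y) = pi (k * y * k⁻¹) := by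
    intro y
    rw [← hf, map_mul, map_mul, map_inv]
    exact DFunLike.congr_fun hx (pi y)
  have h6 := S2079.conj_of_quot γ k h5 (kgen .a)
  have ha : kgen .a ∈ S := by
    have h : kgen .a = Cfsg.Agent.R01.AlphaFi23.t .a := by
      apply Subtype.ext
      rfl
    rw [h]
    exact LemmaVInst.ta_mem
  have h7 : k * kgen .a * k⁻¹ ∈ S := hc.conj k ha
  rw [← h6, h1 .a (by decide)] at h7
  refine hc.nz _ ha ?_
  have h8 : kgen .a * zK = zK * kgen .a := hc.ext.comm _
  rw [h8]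
  exact h7

end fi22

theorem row_fi22 {G : Type u} [Group G] [Finite G] [IsSimpleGroup G] (h : IsoFi22 G) : Row G := by
  have hN : Nontrivial Fi22 := h.some.symm.toEquiv.nontrivial
  have hfin : Finite Fi22 := finite_of_out h
  obtain ⟨α, h1, h2⟩ := fi22_exists
  exact Row.of_card_out_two h S2079.result α h1 h2

open Cfsg.Agent.J4Type.Aut22 Cfsg.Agent.KFacts.MM.OutAut in
theorem row_m22 {G : Type u} [Group G] [Finite G] [IsSimpleGroup G] (h : IsoM22 G) : Row G := by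
  have hN : Nontrivial M22 := h.some.symm.toEquiv.nontrivial
  have hfin : Finite M22 := finite_of_out h
  -- an involution of `M24`
  obtain ⟨t, ht1, ht2⟩ : ∃ t : M24, t ≠ 1 ∧ t * t = 1 := by
    have : Fact (Nat.Prime 2) := ⟨Nat.prime_two⟩
    have hcard : 2 ∣ Nat.card M24 := by
      have h1 : Nat.card Cfsg.Spor.M22 = 443520 := Cfsg.Agent.SporadicA.MathieuRecog.card_M22
      have h2 : Nat.card Cfsg.Spor.M22 ∣ Nat.card M24 := Subgroup.card_dvd_of_le M22_le_M24
      rw [h1] at h2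
      exact (by norm_num : 2 ∣ 443520).trans h2
    obtain ⟨t, ht⟩ := exists_prime_orderOf_dvd_card' 2 hcard
    refine ⟨t, fun h => ?_, ?_⟩
    · rw [h, orderOf_one] at ht; omega
    · rw [← pow_two, ← ht, pow_orderOf_eq_one]
  obtain ⟨x, hx⟩ : ∃ x : GolayPt, (t : Equiv.Perm GolayPt) x ≠ x := by
    by_contra hne
    push Not at hne
    exact ht1 (Subtype.ext (Equiv.ext hne))
  obtain ⟨y, hy⟩ : ∃ y : GolayPt, y = (t : Equiv.Perm GolayPt) x := ⟨_, rfl⟩
  rw [← hy] at hx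
  have hty : (t : Equiv.Perm GolayPt) y = x := by
    rw [hy]
    exact congrArg (fun z : M24 => (z : Equiv.Perm GolayPt) x) ht2
  obtain ⟨g, hg⟩ := Cfsg.Agent.SporadicStructure.M23Index253.exists_map (n := 2) S0366.result (by norm_num)
    ![none, some 0] ![x, y] (by
      intro i j hij
      fin_cases i <;> fin_cases j <;> simp at hij ⊢) (by
      intro i j hij
      fin_cases i <;> fin_cases j <;> simp at hij ⊢
      · exact hx hij.symm
      · exact hx hij)
  have hg0 : (g : Equiv.Perm GolayPt) none = x := hg 0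
  have hg1 : (g : Equiv.Perm GolayPt) (some 0) = y := hg 1
  obtain ⟨s, hs⟩ : ∃ s : Equiv.Perm GolayPt, s = (g : Equiv.Perm GolayPt)⁻¹ * t * g := ⟨_, rfl⟩
  have hs24 : s ∈ M24 := by
    rw [hs]
    exact M24.mul_mem (M24.mul_mem (M24.inv_mem g.2) t.2) g.2
  have hs0 : s none = some 0 := by
    rw [hs, Equiv.Perm.mul_apply, Equiv.Perm.mul_apply, hg0, ← hy, ← hg1]
    simp
  have hs1 : s (some 0) = none := by
    rw [hs, Equiv.Perm.mul_apply, Equiv.Perm.mul_apply, hg1, hty, ← hg0]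
    simp
  have hss : s * s = 1 := by
    have h1 : (t : Equiv.Perm GolayPt) * t = 1 := congrArg (fun z : M24 => (z : Equiv.Perm GolayPt)) ht2
    rw [hs]
    calc (g : Equiv.Perm GolayPt)⁻¹ * t * g * ((g : Equiv.Perm GolayPt)⁻¹ * t * g)
        = (g : Equiv.Perm GolayPt)⁻¹ * (t * t) * g := by group
      _ = 1 := by rw [h1]; group
  have hsD : s ∈ D22 := (mem_D22_iff s).2 ⟨hs24, Or.inr ⟨hs0, hs1⟩⟩
  refine Row.of_card_out_two h S2062.result (autOf s hsD) (fun k hk => ?_) ?_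
  · have h1 : emb (autOf s hsD) = s := ind_eq hsD fun m => rfl
    rw [hk, emb_conj] at h1
    have h2 := ((mem_M22_iff_D22 _).1 k.2).2
    rw [h1, hs0] at h2
    exact absurd h2 (by simp)
  · apply mul_self_eq_one
    intro m
    apply Subtype.ext
    show s * (s * m * s⁻¹) * s⁻¹ = m
    calc s * (s * (m : Equiv.Perm GolayPt) * s⁻¹) * s⁻¹ = (s * s) * m * (s * s)⁻¹ := by group
      _ = m := by rw [hss]; group

section hn
open Cfsg.Agent.HN Cfsg.Agent.HN.Pres Cfsg.Agent.HN.HS100 Cfsg.Agent.HN.H0Basic Cfsg.Agent.H997.OutHN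

/-- the endomorphism `θ` is not inner (proof of `OutHN.exists_outer`) -/
theorem hn_not_inner (θ : Cfsg.Spor.HN →* Cfsg.Spor.HN) (hx : θ Pres.hx = Pres.hx) (hy : θ Pres.hy = Pres.hy)
    (hz : θ Pres.hz = Pres.hz * Pres.hx ^ 2) (g : Cfsg.Spor.HN) (happ : ∀ u : Cfsg.Spor.HN, θ u = g * u * g⁻¹) :
    False := by
  have hx2 : Pres.hx ^ 2 ≠ 1 := by
    rw [← ψ_τ]
    intro h
    exact KFacts.HN.emb.ne (KFacts.HN.emb.inj (h.trans (_root_.map_one _).symm))
  have hcomp : θ.comp NormalH.ψ = NormalH.ψ.comp twist := by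
    refine MonoidHom.eq_of_eqOn_dense closure_gens ?_
    rintro h (rfl | rfl | rfl)
    · rw [MonoidHom.comp_apply, MonoidHom.comp_apply, twist_gx, NormalH.ψ_gx, hx]
    · rw [MonoidHom.comp_apply, MonoidHom.comp_apply, twist_gy, NormalH.ψ_gy, hy]
    · rw [MonoidHom.comp_apply, MonoidHom.comp_apply, twist_gz, map_mul, NormalH.ψ_gz, ψ_τ, hz]
  have hc : ∀ u : Cfsg.Spor.HN, θ u = u → g * u = u * g := by
    intro u hu
    rw [happ] at hu
    exact mul_inv_eq_iff_eq_mul.1 hu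
  have hgτ : g * NormalH.ψ τ = NormalH.ψ τ * g := by
    apply hc
    rw [ψ_τ, map_pow, hx]
  obtain ⟨h, rfl⟩ := KFacts.HN.emb.cent g hgτ
  have hK : ∀ k ∈ K, h * k = k * h := by
    intro k hk
    apply KFacts.HN.emb.inj
    rw [map_mul, map_mul]
    apply hc
    have h1 := congrArg (fun f : H0 →* Cfsg.Spor.HN => f k) hcomp
    simp only [MonoidHom.comp_apply] at h1
    rw [h1, twist_of_mem hk]
  have hz' : θ Pres.hz = Pres.hz := by
    rw [happ, mul_inv_eq_iff_eq_mul, ← NormalH.ψ_gz, ← map_mul, ← map_mul]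
    rcases StepFive.eq_of_comm_K hK with rfl | rfl
    · rw [one_mul, mul_one]
    · rw [τ_comm]
  rw [hz] at hz'
  exact hx2 (mul_eq_left.1 hz')

theorem hx2_comm (h : H0) : Pres.hx ^ 2 * NormalH.ψ h = NormalH.ψ h * Pres.hx ^ 2 := by
  rw [← ψ_τ, ← map_mul, ← map_mul, τ_comm]

theorem hx4 : Pres.hx ^ 2 * Pres.hx ^ 2 = 1 := by rw [← ψ_τ, ← map_mul, τ_mul_τ, _root_.map_one]

theorem ht_conj : Pres.hx ^ 2 * Pres.ht * (Pres.hx ^ 2)⁻¹ = Pres.ht ^ 4 := by
  have hx1 : Pres.hx⁻¹ * Pres.ht * Pres.hx = (Pres.ht ^ 2)⁻¹ := mul_eq_one_iff_eq_inv.1 rel_tx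
  have hx2 : (Pres.hx ^ 2)⁻¹ * Pres.ht * Pres.hx ^ 2 = Pres.ht ^ 4 := by
    calc (Pres.hx ^ 2)⁻¹ * Pres.ht * Pres.hx ^ 2 = Pres.hx⁻¹ * (Pres.hx⁻¹ * Pres.ht * Pres.hx) * Pres.hx := by
          rw [pow_two]; group
      _ = Pres.hx⁻¹ * (Pres.ht ^ 2)⁻¹ * Pres.hx := by rw [hx1]
      _ = ((Pres.hx⁻¹ * Pres.ht * Pres.hx) ^ 2)⁻¹ := by rw [pow_two, pow_two]; group
      _ = (((Pres.ht ^ 2)⁻¹) ^ 2)⁻¹ := by rw [hx1]
      _ = Pres.ht ^ 4 := by group
  have h1 : (Pres.hx ^ 2)⁻¹ = Pres.hx ^ 2 := inv_eq_of_mul_eq_one_left hx4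
  rw [h1]
  rwa [h1] at hx2

/-- an outer automorphism of `HN` of order 2 -/
theorem hn_exists : ∃ α : MulAut Cfsg.Spor.HN, (∀ g : Cfsg.Spor.HN, α ≠ MulAut.conj g) ∧ α * α = 1 := by
  obtain ⟨θ, hx, hy, hz, ht⟩ := exists_end
  have h1 : (Pres.hx ^ 2)⁻¹ = Pres.hx ^ 2 := inv_eq_of_mul_eq_one_left hx4
  have hcy : Pres.hx ^ 2 * Pres.hy = Pres.hy * Pres.hx ^ 2 := by
    rw [← NormalH.ψ_gy]; exact hx2_comm _
  have hcz : Pres.hx ^ 2 * Pres.hz = Pres.hz * Pres.hx ^ 2 := by
    rw [← NormalH.ψ_gz]; exact hx2_comm _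
  -- `θ² = conj (hx²)`
  have hθ2 : θ.comp θ = (MulAut.conj (Pres.hx ^ 2)).toMonoidHom := by
    apply PresentedGroup.ext
    intro x
    cases x
    · show θ (θ Pres.hx) = Pres.hx ^ 2 * Pres.hx * (Pres.hx ^ 2)⁻¹
      rw [hx, hx]; group
    · show θ (θ Pres.hy) = Pres.hx ^ 2 * Pres.hy * (Pres.hx ^ 2)⁻¹
      rw [hy, hy, hcy]; group
    · show θ (θ Pres.hz) = Pres.hx ^ 2 * Pres.hz * (Pres.hx ^ 2)⁻¹
      rw [hz, map_mul, hz, map_pow, hx, hcz, mul_assoc, hx4]; group
    · show θ (θ Pres.ht) = Pres.hx ^ 2 * Pres.ht * (Pres.hx ^ 2)⁻¹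
      rw [ht, map_pow, ht, ht_conj, ← pow_mul]
  have hθ2' : ∀ u, θ (θ u) = Pres.hx ^ 2 * u * (Pres.hx ^ 2)⁻¹ := fun u => DFunLike.congr_fun hθ2 u
  let f : Cfsg.Spor.HN →* Cfsg.Spor.HN := (MulAut.conj Pres.hx).toMonoidHom.comp θ
  have hf : ∀ u, f u = Pres.hx * θ u * Pres.hx⁻¹ := fun u => rfl
  have hff : f.comp f = MonoidHom.id _ := by
    refine MonoidHom.ext fun u => ?_
    show f (f u) = u
    rw [hf, hf, map_mul, map_mul, map_inv, hx, hθ2']
    have h4 := hx4
    calc Pres.hx * (Pres.hx * (Pres.hx ^ 2 * u * (Pres.hx ^ 2)⁻¹) * Pres.hx⁻¹) * Pres.hx⁻¹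
        = (Pres.hx ^ 2 * Pres.hx ^ 2) * u * (Pres.hx ^ 2 * Pres.hx ^ 2)⁻¹ := by rw [pow_two]; group
      _ = u := by rw [h4]; group
  refine ⟨f.toMulEquiv f hff hff, fun g hg => ?_, mul_self_eq_one _ fun x => DFunLike.congr_fun hff x⟩
  refine hn_not_inner θ hx hy hz (Pres.hx⁻¹ * g) fun u => ?_
  have h5 : f u = g * u * g⁻¹ := DFunLike.congr_fun hg u
  rw [hf] at h5
  calc θ u = Pres.hx⁻¹ * (Pres.hx * θ u * Pres.hx⁻¹) * Pres.hx := by group
    _ = Pres.hx⁻¹ * (g * u * g⁻¹) * Pres.hx := by rw [h5]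
    _ = Pres.hx⁻¹ * g * u * (Pres.hx⁻¹ * g)⁻¹ := by group

end hn

theorem row_hn {G : Type u} [Group G] [Finite G] [IsSimpleGroup G] (h : IsoHN G) : Row G := by
  have hN : Nontrivial HN := h.some.symm.toEquiv.nontrivial
  have hfin : Finite HN := finite_of_out h
  obtain ⟨α, h1, h2⟩ := hn_exists
  exact Row.of_card_out_two h S2082.result α h1 h2

end Cfsg.Agent.H430.CfSpor
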