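import Cfsg.Agent.H430.CfSporOne
import Cfsg.Agent.H430.CfSporTwo

/-!
# Rows of S5880: the sporadic groups
-/

set_option autoImplicit false

namespace Cfsg.Agent.H430.CfSpor

open Cfsg Cfsg.Spor Cfsg.Agent.H430.CfBase

universe u

theorem row_sporadic {G : Type u} [Group G] [Finite G] [IsSimpleGroup G] (h : IsSporadicGroup G) : Row G := by
  rcases h with h | h | h | h | h | h | h | h | h | h | h | h | h | h | h | h | h | h | h | h | h | h | h | h | h | h
  · exact row_m11 h
  · exact row_m12 h
  · exact row_m22 h
  · exact row_m23 h
  · exact row_m24 h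
  · exact row_j1 h
  · exact row_j2 h
  · exact row_j3 h
  · exact row_j4 h
  · exact row_co1 h
  · exact row_co2 h
  · exact row_co3 h
  · exact row_mcl h
  · exact row_hs h
  · exact row_suz h
  · exact row_he h
  · exact row_ru h
  · exact row_on h
  · exact row_ly h
  · exact row_fi22 h
  · exact row_fi23 h
  · exact row_fi24 h
  · exact row_hn h
  · exact row_th h
  · exact row_b h
  · exact row_m h

end Cfsg.Agent.H430.CfSpor
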