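import Cfsg.Agent.H430.CfG2Row
import Cfsg.Agent.H430.CfF4Even
import Cfsg.Agent.H430.CfPSp
import Cfsg.Agent.H430.CfAlt
import Cfsg.Agent.H430.CfSpor
import Cfsg.Agent.H957.CfOrth
import Cfsg.Agent.H957.CfRankOne
import Cfsg.Agent.H875.RowPSL
import Cfsg.Agent.H875.RowPSU
import Cfsg.Agent.H235.TitsRow
import Cfsg.Agent.H934.RowTwD4
import Cfsg.Agent.H934.RowTwE6
import Cfsg.Agent.H934.RowTwF4
import Cfsg.Prelude.Def_Classification2

/-!
# All rows
-/

set_option autoImplicit false

namespace Cfsg.Agent.H430.CfAll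

open Cfsg Cfsg.Agent.H430.CfBase

universe u

theorem row_exceptional {S : Type u} [Group S] [Finite S] [IsSimpleGroup S]
    (h : IsExceptionalLieType S) : Row S := by
  rcases h with h | h | h | h | h | h | h | h | h | h | h
  · exact CfG2Row.row_G2 h
  · exact CfF4Even.row_F4 h
  · exact CfRowChev.row_E6 h
  · exact CfRowChev.row_E7 h
  · exact CfRowChev.row_E8 h
  · exact H934.RowTwE6.row_2E6 h
  · exact H934.RowTwD4.row_3D4 h
  · exact H957.CfRankOne.row_sz h
  · exact H957.CfRankOne.row_ree h
  · exact H934.RowTwF4.row_2F4 h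
  · exact H235.TitsRow.row_tits h

theorem row_known {S : Type u} [Group S] [Finite S] [IsSimpleGroup S] (hS : ¬ IsMulCommutative S)
    (h : IsKnownSimple' S) : Row S := by
  rcases h with h | h | h | h | h | h | h | h | h | h
  · exfalso
    apply hS
    have h1 : Fact (Nat.card S).Prime := ⟨h⟩
    have h2 : IsCyclic S := isCyclic_of_prime_card (p := Nat.card S) rfl
    exact IsCyclic.isMulCommutative
  · exact CfAlt.row_alt h
  · exact H875.RowPSL.row_psl h
  · exact CfPSp.row_psp h
  · exact H875.RowPSU.row_psu h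
  · exact H957.CfOrth.row_pomega_odd h
  · exact H957.CfOrth.row_pomega_plus h
  · exact H957.CfOrth.row_pomega_minus h
  · exact row_exceptional h
  · exact CfSpor.row_sporadic h

end Cfsg.Agent.H430.CfAll
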