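import Cfsg.Agent.H430.CfBase
import Cfsg.Agent.H70.ChevFix

/-!
# The normaliser of the highest root subgroup in a finite Chevalley group

* `ncard_conj_le` : the number of conjugates of `X_θ`, `θ` the highest root, is at most `Σ q^(d r)`, the sum over the
  roots `r` in the orbit of `θ` under the Weyl group, `d r` the distance of `r` from `θ`;
* `mem_of_central` : `Z(U) = X_θ` (for the good characteristics), from a table;
* `hasInv` : the class of `N(X_θ)` is invariant under all automorphisms.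
-/

set_option autoImplicit false

namespace Cfsg.Agent.H430.CfChev

open scoped Pointwise
open Cfsg Cfsg.Lie Cfsg.Agent.ChevalleyStructure Cfsg.Agent.ChevalleyStructure.Elts
  Cfsg.Agent.ChevalleyStructure.NConj Cfsg.Agent.ChevalleyStructure.BNChev Cfsg.Agent.S1042
  Cfsg.Agent.Schreier.ChevLocal Cfsg.Agent.H70.AutFix Cfsg.Agent.H70.ChevTab Cfsg.Agent.H70.ChevFix
open Cfsg.Agent.H430.CfBase (HasInv Row inv_normalizer_of_char)

universe u

variable {D : ChevalleyDatum} (hD : InList D) {F : Type u} [Field F]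

/-- The conjugates of `X_r` under `B`. -/
def Om (D : ChevalleyDatum) (F : Type u) [Field F] (r : ℕ) : Set (Subgroup ↥(D.group F)) :=
  {Y | ∃ b ∈ BB D F, Y = MulAut.conj b • XX D F r}

theorem smul_eq_of_maps {G : Type*} [Group G] [Finite G] {A A' : Subgroup G} (g : G)
    (h : ∀ x ∈ A, g * x * g⁻¹ ∈ A') (h' : ∀ x ∈ A', g⁻¹ * x * g ∈ A) : MulAut.conj g • A = A' := by
  apply le_antisymm
  · intro x hx
    rw [mem_smul_iff, ← map_inv, MulAut.conj_apply, inv_inv] at hx
    have := h _ hx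
    have e : g * (g⁻¹ * x * g) * g⁻¹ = x := by group
    rwa [e] at this
  · intro x hx
    rw [mem_smul_iff, ← map_inv, MulAut.conj_apply, inv_inv]
    exact h' x hx

theorem nn_smul_XX (hD : InList D) [Finite F] (i : Fin D.rank) {r : ℕ} (hr : r < D.nroots) :
    MulAut.conj (nn hD F i) • XX D F r = XX D F (D.reflectRoot i r) := by
  have hfin : Finite (GL D.Idx F) := inferInstance
  have hfinG : Finite ↥(D.group F) := inferInstance
  refine smul_eq_of_maps _ (fun x hx => ?_) (fun x hx => ?_)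
  · obtain ⟨t, rfl⟩ := (mem_XX hD).1 hx
    obtain ⟨η, -, h1, -⟩ := conj_x (F := F) hD i.2 hr
    exact (mem_XX hD).2 ⟨_, Subtype.ext (h1 t)⟩
  · obtain ⟨t, rfl⟩ := (mem_XX hD).1 hx
    obtain ⟨η, hη, h1, -⟩ := conj_x (F := F) hD i.2 hr
    refine (mem_XX hD).2 ⟨η * t, Subtype.ext ?_⟩
    have h2 := h1 (η * t)
    rw [← mul_assoc, sign_mul_self hη, one_mul] at h2
    show (nS hD F i)⁻¹ * xG hD (D.reflectRoot i r) t * nS hD F i = xG hD r (η * t)
    rw [← h2]; group

theorem nn_inv_smul_XX (hD : InList D) [Finite F] (i : Fin D.rank) {r : ℕ} (hr : r < D.nroots) :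
    MulAut.conj (nn hD F i)⁻¹ • XX D F r = XX D F (D.reflectRoot i r) := by
  have h1 := nn_smul_XX (F := F) hD i (Reach.reflect_lt hD i.2 hr)
  rw [Reach.reflect_reflect hD i.2 hr] at h1
  rw [← h1, smul_smul, ← map_mul, inv_mul_cancel, map_one, one_smul]

/-- The step. -/
theorem Om_reflect (hD : InList D) [Finite F] (i : Fin D.rank) {r : ℕ} (hr : r < D.nroots) :
    (Om D F (D.reflectRoot i r)).ncard ≤ Nat.card F * (Om D F r).ncard := by
  have hfin : Finite (GL D.Idx F) := inferInstance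
  have hfinG : Finite ↥(D.group F) := inferInstance
  have hfinS : Finite (Subgroup ↥(D.group F)) := inferInstance
  have hsub : Om D F (D.reflectRoot i r) ⊆
      (fun p : F × Subgroup ↥(D.group F) => MulAut.conj (xx hD i p.1 * (nn hD F i)⁻¹) • p.2) ''
        (Set.univ ×ˢ Om D F r) := by
    rintro Y ⟨b, hb, rfl⟩
    obtain ⟨u, hu, h, hh, rfl⟩ := Schreier.ChevSch.exists_mul F hD hb
    obtain ⟨t, ht⟩ := exists_xx hD i hu
    have h1 : nn hD F i * ((xx hD i t)⁻¹ * u * h) * (nn hD F i)⁻¹ ∈ BB D F := by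
      have e : nn hD F i * ((xx hD i t)⁻¹ * u * h) * (nn hD F i)⁻¹ =
          (nn hD F i * ((xx hD i t)⁻¹ * u) * (nn hD F i)⁻¹) * (nn hD F i * h * (nn hD F i)⁻¹) := by group
      rw [e]
      refine mul_mem ?_ ?_
      · exact UU_le F (VV_le F i ((Subgroup.mem_normalizer_iff.1 (nn_mem_normalizer hD F i) _).1 ht))
      · refine Subgroup.mem_sup_right ?_
        exact conj_mem_diagonal hD (nG_mem_monomial hD (simple_lt hD i.2) one_ne_zero) hh
    refine ⟨(t, MulAut.conj (nn hD F i * ((xx hD i t)⁻¹ * u * h) * (nn hD F i)⁻¹) • XX D F r),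
      ⟨Set.mem_univ _, ⟨_, h1, rfl⟩⟩, ?_⟩
    show MulAut.conj (xx hD i t * (nn hD F i)⁻¹) •
      MulAut.conj (nn hD F i * ((xx hD i t)⁻¹ * u * h) * (nn hD F i)⁻¹) • XX D F r = _
    rw [smul_smul, ← map_mul, ← nn_inv_smul_XX hD i hr, smul_smul, ← map_mul]
    congr 2
    group
  refine (Set.ncard_le_ncard hsub (Set.toFinite _)).trans ?_
  refine (Set.ncard_image_le (Set.toFinite _)).trans ?_
  rw [Set.ncard_prod, Set.ncard_univ]

theorem conj_smul_of_mem_HH (hD : InList D) {h : ↥(D.group F)} (hh : h ∈ HH D F) {r : ℕ} (hr : r < D.nroots) :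
    MulAut.conj h • XX D F r = XX D F r := conj_XX hD hh hr

theorem nroots_pos (hD : InList D) : 0 < D.nroots := by
  have h1 := simple_lt hD (RootComb.good_of_mem hD).rank_pos
  omega

theorem top_pos (hD : InList D) : D.IsPosRoot (D.nroots - 1) := by
  rw [UnipOrd.isPosRoot_iff hD]
  have h1 := nroots_pos hD
  omega

/-- `U` centralises `X_θ`. -/
theorem comm_top (hD : InList D) {u : ↥(D.group F)} (hu : u ∈ UU D F) (t : F) :
    u * xe hD (D.nroots - 1) t = xe hD (D.nroots - 1) t * u := by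
  have hle : D.posUnipotent F ≤ Subgroup.centralizer ({xG hD (D.nroots - 1) t} : Set (GL D.Idx F)) := by
    refine (posUnipotent_le_iff hD _).2 fun r hr s => ?_
    rw [Subgroup.mem_centralizer_singleton_iff]
    by_cases hrt : r = D.nroots - 1
    · rw [hrt, xG_add, xG_add, add_comm]
    · have h1 := UnipProd.xG_comm hD (r := D.nroots - 1) (s := r) (top_pos hD).1 hr.1 hrt
        (UnipProd.ne_neg_of_pos hD (top_pos hD) hr) t s
      have h2 : wordG hD (D.commWord F (D.nroots - 1) r t s) ∈ UnipProd.unipGE D F D.nroots :=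
        UnipProd.wordG_commWord_mem hD (top_pos hD) hr t s (Or.inl (by have := nroots_pos hD; omega))
      rw [UnipProd.unipGE_eq_bot hD F le_rfl, Subgroup.mem_bot] at h2
      rw [h2, mul_one] at h1
      exact h1
  have h1 := Subgroup.mem_centralizer_singleton_iff.1 (hle hu)
  exact Subtype.ext h1

theorem BB_smul_top (hD : InList D) [Finite F] {b : ↥(D.group F)} (hb : b ∈ BB D F) :
    MulAut.conj b • XX D F (D.nroots - 1) = XX D F (D.nroots - 1) := by
  have hfin : Finite (GL D.Idx F) := inferInstance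
  have hfinG : Finite ↥(D.group F) := inferInstance
  obtain ⟨u, hu, h, hh, rfl⟩ := Schreier.ChevSch.exists_mul F hD hb
  rw [map_mul, mul_smul, conj_XX hD hh (top_pos hD).1]
  refine smul_eq_of_maps _ (fun x hx => ?_) (fun x hx => ?_)
  · obtain ⟨t, rfl⟩ := (mem_XX hD).1 hx
    rw [comm_top hD hu, mul_inv_cancel_right]
    exact hx
  · obtain ⟨t, rfl⟩ := (mem_XX hD).1 hx
    rw [mul_assoc, ← comm_top hD hu, inv_mul_cancel_left]
    exact hx

theorem Om_top (hD : InList D) [Finite F] : Om D F (D.nroots - 1) = {XX D F (D.nroots - 1)} := by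
  ext Y
  constructor
  · rintro ⟨b, hb, rfl⟩
    exact BB_smul_top hD hb
  · rintro rfl
    exact ⟨1, one_mem _, by rw [map_one, one_smul]⟩

/-- A table of distances from the highest root. -/
structure DistOk (D : ChevalleyDatum) (O : List ℕ) (d : ℕ → ℕ) : Prop where
  lt : ∀ r ∈ O, r < D.nroots
  top : D.nroots - 1 ∈ O
  step : ∀ r ∈ O, r = D.nroots - 1 ∨ ∃ i < D.rank, D.reflectRoot i r ∈ O ∧ d (D.reflectRoot i r) + 1 = d r
  closed : ∀ r ∈ O, ∀ i < D.rank, D.reflectRoot i r ∈ O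

theorem ncard_Om_le (hD : InList D) [Finite F] {O : List ℕ} {d : ℕ → ℕ} (h : DistOk D O d) {r : ℕ} (hr : r ∈ O) :
    (Om D F r).ncard ≤ Nat.card F ^ d r := by
  obtain ⟨n, hn⟩ : ∃ n, n = d r := ⟨_, rfl⟩
  induction n generalizing r with
  | zero =>
    rcases h.step r hr with h1 | ⟨i, hi, h1, h2⟩
    · rw [h1, Om_top hD, Set.ncard_singleton]
      exact Nat.one_le_pow _ _ Nat.card_pos
    · omega
  | succ n ih =>
    rcases h.step r hr with h1 | ⟨i, hi, h1, h2⟩
    · rw [h1, Om_top hD, Set.ncard_singleton]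
      exact Nat.one_le_pow _ _ Nat.card_pos
    · have h3 := Om_reflect (F := F) hD ⟨i, hi⟩ (h.lt _ h1)
      rw [Reach.reflect_reflect hD hi (h.lt r hr)] at h3
      refine h3.trans ?_
      rw [← h2, pow_succ, mul_comm]
      exact Nat.mul_le_mul_right _ (ih h1 (by omega))

/-- `N` permutes the root subgroups of the orbit. -/
theorem exists_of_mem_NN (hD : InList D) [Finite F] {O : List ℕ} {d : ℕ → ℕ} (h : DistOk D O d) {n : ↥(D.group F)}
    (hn : n ∈ NN D F) {r : ℕ} (hr : r ∈ O) : ∃ s ∈ O, MulAut.conj n • XX D F r = XX D F s := by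
  have key : ∀ g : GL D.Idx F, g ∈ D.monomialSubgroup F → ∀ hg : g ∈ D.group F, ∀ r ∈ O,
      ∃ s ∈ O, MulAut.conj (⟨g, hg⟩ : ↥(D.group F)) • XX D F r = XX D F s := by
    let K : Subgroup (GL D.Idx F) :=
      { carrier := {g | ∃ hg : g ∈ D.group F, (∀ r ∈ O, ∃ s ∈ O, MulAut.conj (⟨g, hg⟩ : ↥(D.group F)) • XX D F r = XX D F s) ∧
          ∀ r ∈ O, ∃ s ∈ O, MulAut.conj (⟨g, hg⟩ : ↥(D.group F))⁻¹ • XX D F r = XX D F s}
        mul_mem' := by
          rintro a b ⟨ha, ha1, ha2⟩ ⟨hb, hb1, hb2⟩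
          refine ⟨mul_mem ha hb, fun r hr => ?_, fun r hr => ?_⟩
          · obtain ⟨s, hs, e1⟩ := hb1 r hr
            obtain ⟨s', hs', e2⟩ := ha1 s hs
            refine ⟨s', hs', ?_⟩
            rw [← e2, ← e1, smul_smul, ← map_mul]
            rfl
          · obtain ⟨s, hs, e1⟩ := ha2 r hr
            obtain ⟨s', hs', e2⟩ := hb2 s hs
            refine ⟨s', hs', ?_⟩
            rw [← e2, ← e1, smul_smul, ← map_mul, ← mul_inv_rev]
            rfl
        one_mem' := ⟨one_mem _, fun r hr => ⟨r, hr, by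
          rw [show (⟨1, one_mem _⟩ : ↥(D.group F)) = 1 from rfl, map_one, one_smul]⟩, fun r hr => ⟨r, hr, by
          rw [show (⟨1, one_mem _⟩ : ↥(D.group F)) = 1 from rfl, inv_one, map_one, one_smul]⟩⟩
        inv_mem' := by
          rintro a ⟨ha, ha1, ha2⟩
          refine ⟨inv_mem ha, fun r hr => ?_, fun r hr => ?_⟩
          · exact ha2 r hr
          · obtain ⟨s, hs, e⟩ := ha1 r hr
            refine ⟨s, hs, ?_⟩
            rw [← e]
            congr 2 }
    have hle : D.monomialSubgroup F ≤ K := by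
      refine monomial_le_of hD (fun g hg => ?_) (fun i hi => ?_)
      · have hg' : (⟨g, diagonal_le_group hD F hg⟩ : ↥(D.group F)) ∈ HH D F := hg
        exact ⟨diagonal_le_group hD F hg, fun r hr => ⟨r, hr, conj_XX hD hg' (h.lt r hr)⟩,
          fun r hr => ⟨r, hr, conj_XX hD (inv_mem hg') (h.lt r hr)⟩⟩
      · exact ⟨nG_mem_group hD _ _, fun r hr => ⟨_, h.closed r hr i hi, nn_smul_XX hD ⟨i, hi⟩ (h.lt r hr)⟩,
          fun r hr => ⟨_, h.closed r hr i hi, nn_inv_smul_XX hD ⟨i, hi⟩ (h.lt r hr)⟩⟩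
    intro g hg hg' r hr
    obtain ⟨_, h1, -⟩ := hle hg
    exact h1 r hr
  exact key n hn n.2 r hr

/-- The conjugates of `X_θ`. -/
theorem conj_mem_Om (hD : InList D) [Finite F] {O : List ℕ} {d : ℕ → ℕ} (h : DistOk D O d) (g : ↥(D.group F)) :
    ∃ r ∈ O, MulAut.conj g • XX D F (D.nroots - 1) ∈ Om D F r := by
  obtain ⟨b, hb, n, hn, b', hb', rfl⟩ := bruhat hD g
  obtain ⟨s, hs, e⟩ := exists_of_mem_NN hD h hn h.top
  refine ⟨s, hs, b, hb, ?_⟩
  rw [map_mul, map_mul, mul_smul, BB_smul_top hD hb', mul_smul, e]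

theorem sum_toFinset_le (L : List ℕ) (f : ℕ → ℕ) : ∑ r ∈ L.toFinset, f r ≤ (L.map f).sum := by
  induction L with
  | nil => simp
  | cons a L ih =>
    rw [List.toFinset_cons, List.map_cons, List.sum_cons]
    by_cases ha : a ∈ L.toFinset
    · rw [Finset.insert_eq_self.2 ha]; omega
    · rw [Finset.sum_insert ha]; omega

/-- **The index of the normaliser of `X_θ`.** -/
theorem index_normalizer_le (hD : InList D) [Finite F] {O : List ℕ} {d : ℕ → ℕ} (h : DistOk D O d) :
    (Subgroup.normalizer (XX D F (D.nroots - 1) : Set ↥(D.group F))).index ≤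
      (O.map fun r => Nat.card F ^ d r).sum := by
  have hfin : Finite (GL D.Idx F) := inferInstance
  have hfinG : Finite ↥(D.group F) := inferInstance
  have hfinS : Finite (Subgroup ↥(D.group F)) := inferInstance
  set N := Subgroup.normalizer (XX D F (D.nroots - 1) : Set ↥(D.group F)) with hN
  have h1 : N.index ≤ (Set.range fun g : ↥(D.group F) => MulAut.conj g • XX D F (D.nroots - 1)).ncard := by
    rw [Subgroup.index_eq_card, ← Nat.card_coe_set_eq]
    refine Nat.card_le_card_of_injective (fun x => ⟨MulAut.conj x.out • XX D F (D.nroots - 1), ⟨_, rfl⟩⟩) ?_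
    intro x y hxy
    have h2 : MulAut.conj x.out • XX D F (D.nroots - 1) = MulAut.conj y.out • XX D F (D.nroots - 1) :=
      congrArg Subtype.val hxy
    have h3 : (x.out)⁻¹ * y.out ∈ N := by
      refine (mem_normalizer_iff_smul _ _).2 ?_
      rw [map_mul, mul_smul, ← h2, smul_smul, ← map_mul, inv_mul_cancel, map_one, one_smul]
    rw [← x.out_eq, ← y.out_eq]
    exact QuotientGroup.eq.2 h3
  have h2 : (Set.range fun g : ↥(D.group F) => MulAut.conj g • XX D F (D.nroots - 1)) ⊆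
      ⋃ r ∈ O.toFinset, Om D F r := by
    rintro _ ⟨g, rfl⟩
    obtain ⟨r, hr, hg⟩ := conj_mem_Om hD h g
    exact Set.mem_iUnion₂.2 ⟨r, List.mem_toFinset.2 hr, hg⟩
  refine h1.trans ((Set.ncard_le_ncard h2 (Set.toFinite _)).trans ?_)
  refine (Finset.set_ncard_biUnion_le _ _).trans ?_
  refine (Finset.sum_le_sum fun r hr => ncard_Om_le hD h (List.mem_toFinset.1 hr)).trans ?_
  exact sum_toFinset_le O _

/-! ### The centre of `U` -/

open Cfsg.Agent.ChevalleyStructure.UnipProd

/-- `x_m(a)` lies in `unipGE (m + 1)` only for `a = 0`. -/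
theorem eq_zero_of_mem (hD : InList D) {m : ℕ} (hm : D.IsPosRoot m) {a : F}
    (h : xG hD m a ∈ unipGE D F (m + 1)) : a = 0 := by
  have hm' := (UnipOrd.isPosRoot_iff hD m).1 hm
  obtain ⟨t, ht, he⟩ := exists_prod hD (k := m + 1) (by omega) h
  have h1 : wordG hD ((rootsGE D m).map fun r => (r, if r = m then a else 0)) = xG hD m a := by
    rw [rootsGE_cons hm'.2, List.map_cons, wordG_cons]
    show xG hD m (if m = m then a else 0) * _ = _
    rw [if_pos rfl]
    have : ∀ k, m + 1 ≤ k → wordG hD ((rootsGE D k).map fun r => (r, if r = m then a else (0 : F))) = 1 := by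
      intro k hk
      obtain ⟨n, hn⟩ : ∃ n, n = D.nroots - k := ⟨_, rfl⟩
      induction n generalizing k with
      | zero => rw [rootsGE_nil (by omega)]; rfl
      | succ n ih =>
        rw [rootsGE_cons (by omega), List.map_cons, wordG_cons, ih (k + 1) (by omega) (by omega)]
        show xG hD k (if k = m then a else 0) * 1 = 1
        rw [if_neg (by omega), xG_zero, mul_one]
    rw [this (m + 1) le_rfl, mul_one]
  have h2 : wordG hD ((rootsGE D m).map fun r => (r, if r = m then 0 else t r)) = xG hD m a := by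
    rw [rootsGE_cons hm'.2, List.map_cons, wordG_cons]
    show xG hD m (if m = m then 0 else t m) * _ = _
    rw [if_pos rfl, xG_zero, one_mul, he]
    congr 1
    apply List.map_congr_left
    intro r hr
    have := (List.Ico.mem.1 hr).1
    show (r, if r = m then 0 else t r) = (r, t r)
    rw [if_neg (by omega)]
  have h3 := prod_injective hD hm'.1 (h1.trans h2.symm) m le_rfl hm'.2
  simpa using h3

/-- A table for the centre of `U`. -/
structure CenOk (D : ChevalleyDatum) (cs : List ℤ) (al : ℕ → ℕ) : Prop where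
  pos : ∀ k, D.nroots / 2 ≤ k → k + 1 < D.nroots → D.nroots / 2 ≤ al k ∧ al k < D.nroots ∧ k ≠ al k
  ex : ∀ k, D.nroots / 2 ≤ k → k + 1 < D.nroots → ∃ m c rest, D.commTerms (al k) k = (m, c, 1, 1) :: rest ∧ c ∈ cs ∧
    (∀ q ∈ rest, m < q.1) ∧ ∀ r, k < r → r < D.nroots → r ≠ al k → ∀ q ∈ D.commTerms (al k) r, m < q.1

theorem comm_mem (hD : InList D) {al k m : ℕ} (ha : D.IsPosRoot al) (hk : D.nroots / 2 ≤ k)
    (h : ∀ r, k < r → r < D.nroots → r ≠ al → ∀ q ∈ D.commTerms al r, m < q.1) {v : GL D.Idx F}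
    (hv : v ∈ unipGE D F (k + 1)) :
    v⁻¹ * (xG hD al 1)⁻¹ * v * xG hD al 1 ∈ unipGE D F (m + 1) := by
  have hUa : xG hD al (1 : F) ∈ D.posUnipotent F := xG_mem_posUnipotent hD ha 1
  let K : Subgroup (GL D.Idx F) :=
    { carrier := {v | v ∈ D.posUnipotent F ∧ v⁻¹ * (xG hD al 1)⁻¹ * v * xG hD al 1 ∈ unipGE D F (m + 1)}
      mul_mem' := by
        rintro a b ⟨ha1, ha2⟩ ⟨hb1, hb2⟩
        refine ⟨mul_mem ha1 hb1, ?_⟩
        have e : (a * b)⁻¹ * (xG hD al 1)⁻¹ * (a * b) * xG hD al (1 : F) =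
          (b⁻¹ * (a⁻¹ * (xG hD al 1)⁻¹ * a * xG hD al 1) * b⁻¹⁻¹) * (b⁻¹ * (xG hD al 1)⁻¹ * b * xG hD al 1) := by group
        rw [e]
        exact mul_mem (conj_mem_of_mem_posUnipotent hD (inv_mem hb1) ha2) hb2
      one_mem' := ⟨one_mem _, by
        have e : (1 : GL D.Idx F)⁻¹ * (xG hD al 1)⁻¹ * 1 * xG hD al (1 : F) = 1 := by group
        rw [e]; exact one_mem _⟩
      inv_mem' := by
        rintro a ⟨ha1, ha2⟩
        refine ⟨inv_mem ha1, ?_⟩
        have e : a⁻¹⁻¹ * (xG hD al 1)⁻¹ * a⁻¹ * xG hD al (1 : F) =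
          a * (a⁻¹ * (xG hD al 1)⁻¹ * a * xG hD al 1)⁻¹ * a⁻¹ := by group
        rw [e]
        exact conj_mem_of_mem_posUnipotent hD ha1 (inv_mem ha2) }
  have hle : unipGE D F (k + 1) ≤ K := by
    refine (unipGE_le_iff hD _ _).2 fun r hr hkr u => ⟨xG_mem_posUnipotent hD hr u, ?_⟩
    by_cases hra : r = al
    · rw [hra, xG_inv, xG_inv, xG_add, xG_add, xG_add]
      have e : -u + -1 + u + 1 = 0 := by ring
      rw [e, xG_zero]
      exact one_mem _
    · have h1 := xG_comm hD (r := al) (s := r) ha.1 hr.1 hra (ne_neg_of_pos hD ha hr) 1 u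
      have e : (xG hD r u)⁻¹ * (xG hD al 1)⁻¹ * xG hD r u * xG hD al (1 : F) =
          (xG hD r u)⁻¹ * (xG hD al 1)⁻¹ * (xG hD r u * xG hD al 1) := by group
      rw [e, h1]
      have e2 : (xG hD r u)⁻¹ * (xG hD al (1 : F))⁻¹ * (xG hD al 1 * xG hD r u * wordG hD (D.commWord F al r 1 u)) =
          wordG hD (D.commWord F al r 1 u) := by group
      rw [e2]
      refine mem_of_xG_mem hD fun p hp => ?_
      obtain ⟨c, hc, hpc⟩ := UnipOrd.mem_commWord hp
      have hr' := (UnipOrd.isPosRoot_iff hD r).1 hr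
      have ha' := (UnipOrd.isPosRoot_iff hD al).1 ha
      obtain ⟨h2, h3, h4⟩ := UnipOrd.commTerms_ord hD ha'.1 hr'.1 hc
      rw [hpc]
      exact xG_mem_unipGE hD ((UnipOrd.isPosRoot_iff hD _).2 ⟨by omega, h4⟩)
        (h r (by omega) hr.1 hra c hc) _
  exact (hle hv).2

/-- **The centre of `U` is `X_θ`.** -/
theorem mem_of_central (hD : InList D) {cs : List ℤ} {al : ℕ → ℕ} (h : CenOk D cs al)
    (hc : ∀ c ∈ cs, (c : F) ≠ 0) {g : GL D.Idx F} (hg : g ∈ D.posUnipotent F)
    (hcen : ∀ r, D.IsPosRoot r → g * xG hD r 1 = xG hD r (1 : F) * g) : g ∈ unipGE D F (D.nroots - 1) := by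
  have key : ∀ n k, k = D.nroots / 2 + n → k < D.nroots → g ∈ unipGE D F k := by
    intro n
    induction n with
    | zero =>
      intro k hk _
      rw [unipGE_eq_posUnipotent hD F (by omega)]
      exact hg
    | succ n ih =>
      intro k hk hlt
      obtain ⟨l, hl⟩ : ∃ l, k = l + 1 := ⟨D.nroots / 2 + n, by omega⟩
      have hl2 : D.nroots / 2 ≤ l := by omega
      have hgl := ih l (by omega) (by omega)
      obtain ⟨a1, a2, a3⟩ := h.pos l hl2 (by omega)
      obtain ⟨m, c, rest, h1, h2, h3, h4⟩ := h.ex l hl2 (by omega)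
      have hposl : D.IsPosRoot l := (UnipOrd.isPosRoot_iff hD l).2 ⟨hl2, by omega⟩
      have hposa : D.IsPosRoot (al l) := (UnipOrd.isPosRoot_iff hD _).2 ⟨a1, a2⟩
      obtain ⟨t, v, hv, e⟩ := exists_of_mem_unipGE hD hposl hgl
      have hvU : v ∈ D.posUnipotent F := by
        rw [← unipGE_eq_posUnipotent hD F le_rfl]
        exact unipGE_antitone D F (by omega) hv
      have hcm := comm_mem hD hposa hl2 h4 hv
      have h5 := xG_comm hD (r := al l) (s := l) hposa.1 hposl.1 a3 (ne_neg_of_pos hD hposa hposl) 1 t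
      have hmem : (m, c, 1, 1) ∈ D.commTerms (al l) l := by rw [h1]; exact List.mem_cons_self
      obtain ⟨o1, o2, o3⟩ := UnipOrd.commTerms_ord hD a1 hl2 hmem
      have hposm : D.IsPosRoot m := (UnipOrd.isPosRoot_iff hD m).2 ⟨by have : l < m := o2; omega, o3⟩
      have hword : D.commWord F (al l) l 1 t = (m, (c : F) * (-1) ^ 1 * t ^ 1) ::
          rest.map fun c => (c.1, (c.2.1 : F) * (-1) ^ c.2.2.1 * t ^ c.2.2.2) := by
        unfold ChevalleyDatum.commWord
        rw [h1, List.map_cons]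
      have hrest : wordG hD (rest.map fun c => (c.1, (c.2.1 : F) * (-1) ^ c.2.2.1 * t ^ c.2.2.2)) ∈
          unipGE D F (m + 1) := by
        refine mem_of_xG_mem hD fun p hp => ?_
        obtain ⟨q, hq, rfl⟩ := List.mem_map.1 hp
        have hq' : q ∈ D.commTerms (al l) l := by rw [h1]; exact List.mem_cons_of_mem _ hq
        obtain ⟨p1, p2, p3⟩ := UnipOrd.commTerms_ord hD a1 hl2 hq'
        exact xG_mem_unipGE hD ((UnipOrd.isPosRoot_iff hD _).2 ⟨by omega, p3⟩) (h3 q hq) _
      obtain ⟨W, hW⟩ : ∃ W, W = wordG hD (rest.map fun c => (c.1, (c.2.1 : F) * (-1) ^ c.2.2.1 * t ^ c.2.2.2)) := ⟨_, rfl⟩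
      rw [← hW] at hrest
      rw [hword, wordG_cons, ← hW] at h5
      have h6 := hcen (al l) hposa
      rw [e] at h6
      -- `x_m(-ct) W v w = v`
      have h7 : xG hD m ((c : F) * (-1) ^ 1 * t ^ 1) = v * (v⁻¹ * (xG hD (al l) 1)⁻¹ * v * xG hD (al l) 1)⁻¹ * v⁻¹ * W⁻¹ := by
        have h8 : xG hD l t * v * xG hD (al l) 1 = xG hD (al l) 1 * (xG hD l t * v) := h6
        have h9 : xG hD l t * v * xG hD (al l) (1 : F) =
            (xG hD l t * xG hD (al l) 1) * ((xG hD (al l) 1)⁻¹ * v * xG hD (al l) 1) := by group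
        rw [h9, h5] at h8
        have h10 : (xG hD (al l) 1 * xG hD l t * (xG hD m ((c : F) * (-1) ^ 1 * t ^ 1) * W)) *
            ((xG hD (al l) (1 : F))⁻¹ * v * xG hD (al l) 1) =
            (xG hD (al l) 1 * xG hD l t) * (xG hD m ((c : F) * (-1) ^ 1 * t ^ 1) * W *
            ((xG hD (al l) (1 : F))⁻¹ * v * xG hD (al l) 1)) := by group
        rw [h10, ← mul_assoc (xG hD (al l) (1 : F)) (xG hD l t) v] at h8
        have h11 := mul_left_cancel h8
        calc xG hD m ((c : F) * (-1) ^ 1 * t ^ 1) =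
            (xG hD m ((c : F) * (-1) ^ 1 * t ^ 1) * W * ((xG hD (al l) (1 : F))⁻¹ * v * xG hD (al l) 1)) *
            ((xG hD (al l) (1 : F))⁻¹ * v * xG hD (al l) 1)⁻¹ * W⁻¹ := by group
          _ = v * ((xG hD (al l) (1 : F))⁻¹ * v * xG hD (al l) 1)⁻¹ * W⁻¹ := by rw [h11]
          _ = _ := by group
      have h8 : xG hD m ((c : F) * (-1) ^ 1 * t ^ 1) ∈ unipGE D F (m + 1) := by
        rw [h7]
        exact mul_mem (conj_mem_of_mem_posUnipotent hD hvU (inv_mem hcm)) (inv_mem hrest)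
      have h9 := eq_zero_of_mem hD hposm h8
      have ht0 : t = 0 := by
        rw [pow_one, pow_one, mul_neg_one] at h9
        rcases mul_eq_zero.1 h9 with h10 | h10
        · exact absurd (neg_eq_zero.1 h10) (hc c h2)
        · exact h10
      rw [e, ht0, xG_zero, one_mul, hl]
      exact hv
  exact key (D.nroots - 1 - D.nroots / 2) _ (by have := nroots_pos hD; omega) (by have := nroots_pos hD; omega)

/-- `X_θ` is the centre of `U`. -/
theorem mem_XX_top_iff (hD : InList D) {cs : List ℤ} {al : ℕ → ℕ} (h : CenOk D cs al)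
    (hc : ∀ c ∈ cs, (c : F) ≠ 0) (g : ↥(D.group F)) :
    g ∈ XX D F (D.nroots - 1) ↔ g ∈ UU D F ∧ ∀ u ∈ UU D F, u * g = g * u := by
  constructor
  · intro hg
    obtain ⟨t, rfl⟩ := (mem_XX hD).1 hg
    exact ⟨xG_mem_posUnipotent hD (top_pos hD) t, fun u hu => comm_top hD hu t⟩
  · rintro ⟨h1, h2⟩
    have h3 : (g : GL D.Idx F) ∈ unipGE D F (D.nroots - 1) :=
      mem_of_central hD h hc h1 fun r hr =>
        (congrArg Subtype.val (h2 (xe hD r 1) (xG_mem_posUnipotent hD hr 1))).symm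
    obtain ⟨t, v, hv, e⟩ := exists_of_mem_unipGE hD (top_pos hD) h3
    rw [unipGE_eq_bot hD F (by have := nroots_pos hD; omega), Subgroup.mem_bot] at hv
    rw [hv, mul_one] at e
    exact (mem_XX hD).2 ⟨t, Subtype.ext e⟩

theorem normalizer_ne_top (hD : InList D) [Finite F] :
    Subgroup.normalizer (XX D F (D.nroots - 1) : Set ↥(D.group F)) ≠ ⊤ := by
  intro htop
  obtain ⟨n₀, -, h1, -⟩ := exists_n0 hD F
  have h2 : n₀ ∈ Subgroup.normalizer (XX D F (D.nroots - 1) : Set ↥(D.group F)) := by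
    rw [htop]; exact Subgroup.mem_top _
  rw [mem_normalizer_iff_smul] at h2
  have hx : xe hD (D.nroots - 1) (1 : F) ∈ XX D F (D.nroots - 1) := xe_mem_XX hD _ _
  have h3 : xe hD (D.nroots - 1) (1 : F) ∈ UU D F := xG_mem_posUnipotent hD (top_pos hD) 1
  have h4 : xe hD (D.nroots - 1) (1 : F) ∈ VN D F := by
    rw [← h1]
    rw [← h2] at hx
    rw [mem_smul_iff] at hx ⊢
    obtain ⟨t, ht⟩ := (mem_XX hD).1 hx
    rw [ht]
    exact xG_mem_posUnipotent hD (top_pos hD) t
  have h5 : xe hD (D.nroots - 1) (1 : F) ∈ UU D F ⊓ VN D F := ⟨h3, h4⟩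
  rw [UU_inf_VN hD, Subgroup.mem_bot] at h5
  exact one_ne_zero (xe_eq_one hD (top_pos hD).1 h5)

/-- **The normaliser of `X_θ` is a proper subgroup whose class is invariant under all automorphisms.** -/
theorem hasInv (hD : InList D) [Finite F] {O : List ℕ} {d : ℕ → ℕ} (hO : DistOk D O d) {cs : List ℤ} {al : ℕ → ℕ}
    (h : CenOk D cs al) (hc : ∀ c ∈ cs, (c : F) ≠ 0) :
    HasInv ↥(D.group F) (O.map fun r => Nat.card F ^ d r).sum := by
  have hfin : Finite (GL D.Idx F) := inferInstance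
  have hfinG : Finite ↥(D.group F) := inferInstance
  obtain ⟨p, hcp⟩ := CharP.exists F
  have hp : Fact p.Prime := ⟨(CharP.char_is_prime_or_zero F p).resolve_right (CharP.char_ne_zero_of_finite F p)⟩
  obtain ⟨S, hS⟩ := exists_sylow (F := F) hD (p := p)
  refine ⟨Subgroup.normalizer (XX D F (D.nroots - 1) : Set ↥(D.group F)), normalizer_ne_top hD,
    inv_normalizer_of_char S _ ?_, index_normalizer_le hD hO⟩
  intro α hα
  rw [hS] at hα
  have hα' : ∀ g, α g ∈ UU D F ↔ g ∈ UU D F := by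
    intro g
    constructor
    · intro hg
      rw [← hα] at hg
      obtain ⟨x, hx, hxg⟩ := hg
      rwa [← α.injective hxg]
    · intro hg
      rw [← hα]
      exact ⟨g, hg, rfl⟩
  apply le_antisymm
  · rintro _ ⟨g, hg, rfl⟩
    obtain ⟨h1, h2⟩ := (mem_XX_top_iff hD h hc g).1 hg
    refine (mem_XX_top_iff hD h hc _).2 ⟨(hα' g).2 h1, fun u hu => ?_⟩
    obtain ⟨w, rfl⟩ := α.surjective u
    show α w * α g = α g * α w
    rw [← map_mul, ← map_mul, h2 w ((hα' w).1 hu)]
  · intro g hg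
    obtain ⟨w, rfl⟩ := α.surjective g
    obtain ⟨h1, h2⟩ := (mem_XX_top_iff hD h hc _).1 hg
    refine ⟨w, (mem_XX_top_iff hD h hc _).2 ⟨(hα' w).1 h1, fun u hu => ?_⟩, rfl⟩
    have h3 := h2 (α u) ((hα' u).2 hu)
    rw [← map_mul, ← map_mul] at h3
    exact α.injective h3

/-! ### Numbers -/

/-- carries -/
def carry (L : List ℕ) : ℕ → ℕ
  | 0 => L.count 0
  | k + 1 => L.count (k + 1) + (carry L k + 1) / 2

theorem sum_filter_le {q : ℕ} (hq : 2 ≤ q) (L : List ℕ) (k : ℕ) :
    ((L.filter (· ≤ k)).map fun x => q ^ x).sum ≤ carry L k * q ^ k := by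
  induction k with
  | zero =>
    have : ∀ L : List ℕ, ((L.filter (· ≤ 0)).map fun x => q ^ x).sum = L.count 0 := by
      intro L
      induction L with
      | nil => rfl
      | cons a L ih =>
        rcases Nat.eq_zero_or_pos a with rfl | ha
        · rw [List.filter_cons_of_pos (by simp), List.map_cons, List.sum_cons, ih, List.count_cons_self, pow_zero]
          omega
        · rw [List.filter_cons_of_neg (by simp; omega), ih, List.count_cons_of_ne (by omega)]
    rw [this, pow_zero, mul_one, carry]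
  | succ k ih =>
    have h1 : ∀ L : List ℕ, ((L.filter (· ≤ k + 1)).map fun x => q ^ x).sum =
        ((L.filter (· ≤ k)).map fun x => q ^ x).sum + L.count (k + 1) * q ^ (k + 1) := by
      intro L
      induction L with
      | nil => simp
      | cons a L ih =>
        rcases lt_trichotomy a (k + 1) with ha | ha | ha
        · rw [List.filter_cons_of_pos (by simp; omega), List.filter_cons_of_pos (by simp; omega), List.map_cons,
            List.map_cons, List.sum_cons, List.sum_cons, ih, List.count_cons_of_ne (by omega)]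
          ring
        · subst ha
          rw [List.filter_cons_of_pos (by simp), List.filter_cons_of_neg (by simp), List.map_cons,
            List.sum_cons, ih, List.count_cons_self]
          ring
        · rw [List.filter_cons_of_neg (by simp; omega), List.filter_cons_of_neg (by simp; omega), ih,
            List.count_cons_of_ne (by omega)]
    rw [h1, carry]
    have h2 : carry L k * q ^ k ≤ (carry L k + 1) / 2 * q ^ (k + 1) := by
      have h3 : carry L k ≤ (carry L k + 1) / 2 * 2 := by omega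
      calc carry L k * q ^ k ≤ ((carry L k + 1) / 2 * 2) * q ^ k := Nat.mul_le_mul_right _ h3
        _ ≤ ((carry L k + 1) / 2 * q) * q ^ k := Nat.mul_le_mul_right _ (Nat.mul_le_mul_left _ hq)
        _ = (carry L k + 1) / 2 * q ^ (k + 1) := by rw [pow_succ]; ring
    calc _ ≤ carry L k * q ^ k + L.count (k + 1) * q ^ (k + 1) := Nat.add_le_add_right ih _
      _ ≤ (carry L k + 1) / 2 * q ^ (k + 1) + L.count (k + 1) * q ^ (k + 1) := Nat.add_le_add_right h2 _
      _ = _ := by ring

theorem sum_le {q : ℕ} (hq : 2 ≤ q) (L : List ℕ) (k : ℕ) (hk : ∀ x ∈ L, x ≤ k) :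
    (L.map fun x => q ^ x).sum ≤ carry L k * q ^ k := by
  have h1 := sum_filter_le hq L k
  rwa [List.filter_eq_self.2 (by simpa using hk)] at h1

theorem hasInv_mono {S : Type*} [Group S] {m n : ℕ} (h : HasInv S m) (hmn : m ≤ n) : HasInv S n := by
  obtain ⟨K, h1, h2, h3⟩ := h
  exact ⟨K, h1, h2, h3.trans hmn⟩

/-- the number form -/
theorem hasInv' (hD : InList D) [Finite F] {O : List ℕ} {d : ℕ → ℕ} (hO : DistOk D O d) {cs : List ℤ} {al : ℕ → ℕ}
    (h : CenOk D cs al) (hc : ∀ c ∈ cs, (c : F) ≠ 0) {L : List ℕ} (hL : O.map d = L) {k c : ℕ} (hk : ∀ x ∈ L, x ≤ k)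
    (hcar : carry L k ≤ c) : HasInv ↥(D.group F) (c * Nat.card F ^ k) := by
  refine hasInv_mono (hasInv hD hO h hc) ?_
  have h1 : (O.map fun r => Nat.card F ^ d r) = L.map fun x => Nat.card F ^ x := by
    rw [← hL, List.map_map]; rfl
  rw [h1]
  exact (sum_le Finite.one_lt_card L k hk).trans (Nat.mul_le_mul_right _ hcar)

end Cfsg.Agent.H430.CfChev
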