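import Cfsg.Agent.H430.CfChev

/-!
# Checks of the tables
-/

set_option autoImplicit false

namespace Cfsg.Agent.H430.CfChev

open Cfsg Cfsg.Lie Cfsg.Agent.ChevalleyStructure Cfsg.Agent.ChevalleyStructure.Elts

variable {D : ChevalleyDatum}

/-- check of the distances, all roots -/
def chkDistAll (D : ChevalleyDatum) (dl il : List ℕ) : Bool :=
  (List.range D.nroots).all fun r => Nat.beq r (D.nroots - 1) || (Nat.blt (il.getD r 0) D.rank &&
    Nat.beq (dl.getD (D.reflectRoot (il.getD r 0) r) 0 + 1) (dl.getD r 0))

theorem distOk_all (hD : InList D) {dl il : List ℕ} (h : chkDistAll D dl il = true) :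
    DistOk D (List.range D.nroots) (fun r => dl.getD r 0) where
  lt r hr := List.mem_range.1 hr
  top := List.mem_range.2 (by have := nroots_pos hD; omega)
  step r hr := by
    have h1 := List.all_eq_true.1 h r hr
    rw [Bool.or_eq_true, Bool.and_eq_true] at h1
    rcases h1 with h1 | ⟨h1, h2⟩
    · exact Or.inl (Nat.eq_of_beq_eq_true h1)
    · have hlt : il.getD r 0 < D.rank := (Nat.blt_eq ..).mp h1
      exact Or.inr ⟨il.getD r 0, hlt, List.mem_range.2 (Reach.reflect_lt hD hlt (List.mem_range.1 hr)),
        Nat.eq_of_beq_eq_true h2⟩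
  closed r hr i hi := List.mem_range.2 (Reach.reflect_lt hD hi (List.mem_range.1 hr))

/-- check of the distances -/
def chkDist (D : ChevalleyDatum) (O dl il : List ℕ) : Bool :=
  (O.all fun r => Nat.blt r D.nroots && (Nat.beq r (D.nroots - 1) || (Nat.blt (il.getD r 0) D.rank &&
    Nat.beq (dl.getD (D.reflectRoot (il.getD r 0) r) 0 + 1) (dl.getD r 0))) &&
    (List.range D.rank).all fun i => O.contains (D.reflectRoot i r)) && O.contains (D.nroots - 1)

theorem distOk {O dl il : List ℕ} (h : chkDist D O dl il = true) :
    DistOk D O (fun r => dl.getD r 0) := by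
  unfold chkDist at h
  rw [Bool.and_eq_true] at h
  obtain ⟨h, h0⟩ := h
  have h1 : ∀ r ∈ O, r < D.nroots ∧ (r = D.nroots - 1 ∨ (il.getD r 0 < D.rank ∧
      dl.getD (D.reflectRoot (il.getD r 0) r) 0 + 1 = dl.getD r 0)) ∧ ∀ i < D.rank, D.reflectRoot i r ∈ O := by
    intro r hr
    have h1 := List.all_eq_true.1 h r hr
    rw [Bool.and_eq_true, Bool.and_eq_true, Bool.or_eq_true, Bool.and_eq_true] at h1
    obtain ⟨⟨h1, h2⟩, h3⟩ := h1
    refine ⟨(Nat.blt_eq ..).mp h1, ?_, fun i hi => ?_⟩
    · rcases h2 with h2 | ⟨h2, h4⟩
      · exact Or.inl (Nat.eq_of_beq_eq_true h2)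
      · exact Or.inr ⟨(Nat.blt_eq ..).mp h2, Nat.eq_of_beq_eq_true h4⟩
    · exact List.contains_iff_mem.1 (List.all_eq_true.1 h3 i (List.mem_range.2 hi))
  refine ⟨fun r hr => (h1 r hr).1, List.contains_iff_mem.1 h0, fun r hr => ?_, fun r hr i hi => (h1 r hr).2.2 i hi⟩
  rcases (h1 r hr).2.1 with h2 | ⟨h2, h3⟩
  · exact Or.inl h2
  · exact Or.inr ⟨_, h2, (h1 r hr).2.2 _ h2, h3⟩

/-- check of the centre, by the commutator terms -/
def chkCen (D : ChevalleyDatum) (cs : List ℤ) (al : List ℕ) : Bool :=
  (List.range (D.nroots / 2 - 1)).all fun j =>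
    let k := D.nroots / 2 + j
    let a := al.getD j 0
    Nat.ble (D.nroots / 2) a && Nat.blt a D.nroots && !(Nat.beq k a) &&
    match D.commTerms a k with
    | (m, c, 1, 1) :: rest => cs.contains c && (rest.all fun q => Nat.blt m q.1) &&
        (List.range D.nroots).all fun r => !(Nat.blt k r) || Nat.beq r a || (D.commTerms a r).all fun q => Nat.blt m q.1
    | _ => false

theorem cenOk (hD : InList D) {cs : List ℤ} {al : List ℕ} (h : chkCen D cs al = true) :
    CenOk D cs (fun k => al.getD (k - D.nroots / 2) 0) := by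
  have he := UnipOrd.nroots_even hD
  have key : ∀ k, D.nroots / 2 ≤ k → k + 1 < D.nroots →
      (Nat.ble (D.nroots / 2) (al.getD (k - D.nroots / 2) 0) && Nat.blt (al.getD (k - D.nroots / 2) 0) D.nroots &&
        !(Nat.beq k (al.getD (k - D.nroots / 2) 0)) &&
      match D.commTerms (al.getD (k - D.nroots / 2) 0) k with
      | (m, c, 1, 1) :: rest => cs.contains c && (rest.all fun q => Nat.blt m q.1) &&
          (List.range D.nroots).all fun r => !(Nat.blt k r) || Nat.beq r (al.getD (k - D.nroots / 2) 0) ||
            (D.commTerms (al.getD (k - D.nroots / 2) 0) r).all fun q => Nat.blt m q.1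
      | _ => false) = true := by
    intro k h1 h2
    have h3 := List.all_eq_true.1 h (k - D.nroots / 2) (List.mem_range.2 (by omega))
    have h4 : D.nroots / 2 + (k - D.nroots / 2) = k := by omega
    simp only [h4] at h3
    exact h3
  constructor
  · intro k h1 h2
    have h3 := key k h1 h2
    rw [Bool.and_eq_true, Bool.and_eq_true, Bool.and_eq_true] at h3
    obtain ⟨⟨⟨h3, h4⟩, h5⟩, -⟩ := h3
    refine ⟨Nat.le_of_ble_eq_true h3, (Nat.blt_eq ..).mp h4, fun h6 => ?_⟩
    rw [← h6] at h5
    simp at h5
  · intro k h1 h2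
    have h3 := key k h1 h2
    rw [Bool.and_eq_true] at h3
    obtain ⟨-, h3⟩ := h3
    split at h3
    · rename_i m c rest heq
      rw [Bool.and_eq_true, Bool.and_eq_true] at h3
      obtain ⟨⟨h4, h5⟩, h6⟩ := h3
      refine ⟨m, c, rest, heq, List.contains_iff_mem.1 h4, fun q hq => ?_, fun r hr1 hr2 hr3 q hq => ?_⟩
      · exact (Nat.blt_eq ..).mp (List.all_eq_true.1 h5 q hq)
      · have h7 := List.all_eq_true.1 h6 r (List.mem_range.2 hr2)
        rw [Bool.or_eq_true, Bool.or_eq_true] at h7
        rcases h7 with (h7 | h7) | h7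
        · rw [Bool.not_eq_true', ← Bool.not_eq_true, Nat.blt_eq] at h7
          exact absurd hr1 h7
        · exact absurd (Nat.eq_of_beq_eq_true h7) hr3
        · exact (Nat.blt_eq ..).mp (List.all_eq_true.1 h7 q hq)
    · exact absurd h3 (by simp)

/-! ### Fast version for the simply laced types -/

/-- all chains have length at most one -/
def chkLen (D : ChevalleyDatum) : Bool := D.chain.toList.all fun row => row.toList.all fun e => Nat.ble e.2.toList.length 1

theorem length_le (h : chkLen D = true) (r s : ℕ) : (D.chainEntry r s).length ≤ 1 := by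
  unfold ChevalleyDatum.chainEntry
  split
  · simp
  · rename_i e he
    have h1 := List.mem_of_find?_eq_some he
    by_cases hr : r < D.chain.size
    · have h2 : D.chain.getD r #[] ∈ D.chain.toList := by
        rw [Array.getD_eq_getD_getElem?, Array.getElem?_eq_getElem hr]
        exact Array.getElem_mem_toList hr
      have h3 := List.all_eq_true.1 h _ h2
      exact Nat.le_of_ble_eq_true (List.all_eq_true.1 h3 _ h1)
    · have h2 : D.chain.getD r #[] = #[] := by
        rw [Array.getD_eq_getD_getElem?, Array.getElem?_eq_none (by omega)]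
        rfl
      rw [h2] at h1
      simp at h1

theorem chainRoot_none (h : chkLen D = true) (r s i : ℕ) (hi : 2 ≤ i) : D.chainRoot r s i = none := by
  unfold ChevalleyDatum.chainRoot
  rw [List.getElem?_eq_none (by have := length_le h r s; omega)]
  rfl

theorem commTerms_eq (h : chkLen D = true) (r s : ℕ) :
    D.commTerms r s = (D.chainEntry r s).map fun q => (q.1, q.2, 1, 1) := by
  unfold ChevalleyDatum.commTerms
  simp only [chainRoot_none h _ _ _ (le_refl 2), chainRoot_none h _ _ 3 (by norm_num)]
  have h1 := length_le h r s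
  unfold ChevalleyDatum.chainRoot ChevalleyDatum.chainM
  rcases hE : D.chainEntry r s with _ | ⟨q, l⟩
  · simp [hE]
  · rw [hE] at h1
    have : l = [] := by
      rcases l with _ | ⟨a, l⟩
      · rfl
      · simp at h1
    subst this
    simp [hE]

/-- fast check of the centre -/
def chkCenFast (D : ChevalleyDatum) (al : List ℕ) : Bool :=
  (List.range (D.nroots / 2 - 1)).all fun j =>
    let k := D.nroots / 2 + j
    let a := al.getD j 0
    let row := (D.chain.getD a #[]).toList
    Nat.ble (D.nroots / 2) a && Nat.blt a D.nroots && !(Nat.beq k a) &&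
    match row.find? (fun e => e.1 = k) with
    | some e => match e.2.toList with
       | [(m, c)] => [1, -1].contains c && row.all fun e => !(Nat.blt k e.1) || e.2.toList.all fun q => Nat.blt m q.1
       | _ => false
    | none => false

theorem cenOk_fast (hD : InList D) (hlen : chkLen D = true) {al : List ℕ} (h : chkCenFast D al = true) :
    CenOk D [1, -1] (fun k => al.getD (k - D.nroots / 2) 0) := by
  have he := UnipOrd.nroots_even hD
  have key : ∀ k, D.nroots / 2 ≤ k → k + 1 < D.nroots →
      (Nat.ble (D.nroots / 2) (al.getD (k - D.nroots / 2) 0) && Nat.blt (al.getD (k - D.nroots / 2) 0) D.nroots &&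
        !(Nat.beq k (al.getD (k - D.nroots / 2) 0)) &&
      match (D.chain.getD (al.getD (k - D.nroots / 2) 0) #[]).toList.find? (fun e => e.1 = k) with
      | some e => match e.2.toList with
       | [(m, c)] => [1, -1].contains c && (D.chain.getD (al.getD (k - D.nroots / 2) 0) #[]).toList.all fun e =>
          !(Nat.blt k e.1) || e.2.toList.all fun q => Nat.blt m q.1
       | _ => false
      | none => false) = true := by
    intro k h1 h2
    have h3 := List.all_eq_true.1 h (k - D.nroots / 2) (List.mem_range.2 (by omega))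
    have h4 : D.nroots / 2 + (k - D.nroots / 2) = k := by omega
    simp only [h4] at h3
    exact h3
  constructor
  · intro k h1 h2
    have h3 := key k h1 h2
    rw [Bool.and_eq_true, Bool.and_eq_true, Bool.and_eq_true] at h3
    obtain ⟨⟨⟨h3, h4⟩, h5⟩, -⟩ := h3
    refine ⟨Nat.le_of_ble_eq_true h3, (Nat.blt_eq ..).mp h4, fun h6 => ?_⟩
    rw [← h6] at h5
    simp at h5
  · intro k h1 h2
    have h3 := key k h1 h2
    rw [Bool.and_eq_true] at h3
    obtain ⟨-, h3⟩ := h3
    split at h3
    · rename_i e he
      split at h3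
      · rename_i m c heq
        rw [Bool.and_eq_true] at h3
        obtain ⟨h4, h5⟩ := h3
        refine ⟨m, c, [], ?_, List.contains_iff_mem.1 h4, fun q hq => absurd hq (by simp), fun r hr1 hr2 hr3 q hq => ?_⟩
        · rw [commTerms_eq hlen]
          unfold ChevalleyDatum.chainEntry
          rw [he]
          show e.2.toList.map _ = _
          rw [heq]
          rfl
        · rw [commTerms_eq hlen] at hq
          obtain ⟨q', hq', rfl⟩ := List.mem_map.1 hq
          unfold ChevalleyDatum.chainEntry at hq'
          split at hq'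
          · simp at hq'
          · rename_i e' he'
            have h6 := List.mem_of_find?_eq_some he'
            have h7 := List.find?_some he'
            have h8 := List.all_eq_true.1 h5 _ h6
            rw [Bool.or_eq_true] at h8
            rcases h8 with h8 | h8
            · rw [Bool.not_eq_true', ← Bool.not_eq_true, Nat.blt_eq] at h8
              have h9 : e'.1 = r := by simpa using h7
              exact absurd (h9 ▸ hr1) h8
            · exact (Nat.blt_eq ..).mp (List.all_eq_true.1 h8 q' hq')
      · exact absurd h3 (by simp)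
    · exact absurd h3 (by simp)

end Cfsg.Agent.H430.CfChev
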