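import Cfsg.Agent.H430.CfChevChk

/-!
# Tables
-/

set_option autoImplicit false
set_option maxRecDepth 100000

namespace Cfsg.Agent.H430.CfChev

open Cfsg Cfsg.Lie Cfsg.Agent.ChevalleyStructure Cfsg.Agent.ChevalleyStructure.Elts

universe u

def OG2 : List ℕ := [0, 1, 5, 6, 10, 11]
def dlG2 : List ℕ := [5, 4, 0, 0, 0, 3, 2, 0, 0, 0, 1, 0]
def ilG2 : List ℕ := [1, 0, 0, 0, 0, 1, 0, 0, 0, 0, 1, 0]
def alG2 : List ℕ := [7, 6, 9, 7, 6]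
def LG2 : List ℕ := [5, 4, 3, 2, 1, 0]

theorem chkdG2 : chkDist chevG2 OG2 dlG2 ilG2 = true := by decide +kernel

theorem chkcG2 : chkCen chevG2 [1, -1, 3, -3] alG2 = true := by decide +kernel

theorem LG2_eq : (OG2.map fun r => dlG2.getD r 0) = LG2 := by decide +kernel

theorem LG2_le : ∀ x ∈ LG2, x ≤ 5 := by decide +kernel

theorem carryG2 : carry LG2 5 ≤ 2 := by decide +kernel

theorem inG2 : InList chevG2 := by simp [InList]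

/-- type G2 -/
theorem hasInvG2 {F : Type u} [Field F] [Finite F] (hp : (3 : F) ≠ 0) :
    CfBase.HasInv ↥(chevG2.group F) (2 * Nat.card F ^ 5) :=
  hasInv' inG2 (distOk chkdG2) (cenOk inG2 chkcG2) (by
    intro c hc
    simp only [List.mem_cons, List.not_mem_nil, or_false] at hc
    rcases hc with rfl | rfl | rfl | rfl <;> simp [hp]) LG2_eq LG2_le carryG2

def OD4 : List ℕ := List.range chevD4.nroots
def dlD4 : List ℕ := [9, 8, 7, 7, 6, 5, 7, 6, 6, 5, 5, 5, 4, 4, 4, 3, 3, 2, 4, 3, 2, 2, 1, 0]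
def ilD4 : List ℕ := [1, 2, 0, 3, 0, 0, 3, 2, 1, 1, 2, 3, 1, 1, 3, 0, 0, 0, 1, 2, 2, 3, 1, 0]
def alD4 : List ℕ := [14, 14, 12, 13, 12, 18, 14, 12, 13, 12, 14]
def LD4 : List ℕ := [9, 8, 7, 7, 6, 5, 7, 6, 6, 5, 5, 5, 4, 4, 4, 3, 3, 2, 4, 3, 2, 2, 1, 0]

theorem chkdD4 : chkDistAll chevD4 dlD4 ilD4 = true := by decide +kernel

theorem chklD4 : chkLen chevD4 = true := by decide +kernel

theorem chkcD4 : chkCenFast chevD4 alD4 = true := by decide +kernel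

theorem LD4_eq : (OD4.map fun r => dlD4.getD r 0) = LD4 := by decide +kernel

theorem LD4_le : ∀ x ∈ LD4, x ≤ 9 := by decide +kernel

theorem carryD4 : carry LD4 9 ≤ 4 := by decide +kernel

theorem inD4 : InList chevD4 := by simp [InList]

/-- type D4 -/
theorem hasInvD4 {F : Type u} [Field F] [Finite F] : CfBase.HasInv ↥(chevD4.group F) (4 * Nat.card F ^ 9) :=
  hasInv' inD4 (distOk_all inD4 chkdD4) (cenOk_fast inD4 chklD4 chkcD4) (by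
    intro c hc
    simp only [List.mem_cons, List.not_mem_nil, or_false] at hc
    rcases hc with rfl | rfl <;> simp) LD4_eq LD4_le carryD4

def OF4 : List ℕ := [0, 1, 2, 4, 5, 6, 15, 16, 17, 21, 22, 23, 24, 25, 26, 30, 31, 32, 41, 42, 43, 45, 46, 47]
def dlF4 : List ℕ := [15, 14, 13, 0, 12, 11, 10, 0, 0, 0, 0, 0, 0, 0, 0, 11, 10, 9, 0, 0, 0, 9, 8, 8, 7, 7, 6, 0, 0, 0, 6, 5, 4, 0, 0, 0, 0, 0, 0, 0, 0, 5, 4, 3, 0, 2, 1, 0]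
def ilF4 : List ℕ := [3, 2, 1, 0, 0, 0, 0, 0, 0, 0, 0, 0, 0, 0, 0, 2, 3, 1, 0, 0, 0, 2, 2, 3, 2, 3, 1, 0, 0, 0, 0, 0, 0, 0, 0, 0, 0, 0, 0, 0, 0, 3, 2, 1, 0, 2, 3, 0]
def alF4 : List ℕ := [25, 24, 27, 25, 24, 27, 24, 25, 33, 27, 25, 24, 27, 24, 25, 27, 33, 24, 25, 27, 27, 25, 24]
def LF4 : List ℕ := [15, 14, 13, 12, 11, 10, 11, 10, 9, 9, 8, 8, 7, 7, 6, 6, 5, 4, 5, 4, 3, 2, 1, 0]

theorem chkdF4 : chkDist chevF4 OF4 dlF4 ilF4 = true := by decide +kernel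

theorem chkcF4 : chkCen chevF4 [1, -1, 2, -2] alF4 = true := by decide +kernel

theorem LF4_eq : (OF4.map fun r => dlF4.getD r 0) = LF4 := by decide +kernel

theorem LF4_le : ∀ x ∈ LF4, x ≤ 15 := by decide +kernel

theorem carryF4 : carry LF4 15 ≤ 3 := by decide +kernel

theorem inF4 : InList chevF4 := by simp [InList]

/-- type F4 -/
theorem hasInvF4 {F : Type u} [Field F] [Finite F] (hp : (2 : F) ≠ 0) :
    CfBase.HasInv ↥(chevF4.group F) (3 * Nat.card F ^ 15) :=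
  hasInv' inF4 (distOk chkdF4) (cenOk inF4 chkcF4) (by
    intro c hc
    simp only [List.mem_cons, List.not_mem_nil, or_false] at hc
    rcases hc with rfl | rfl | rfl | rfl <;> simp [hp]) LF4_eq LF4_le carryF4

def OE6 : List ℕ := List.range chevE6.nroots
def dlE6 : List ℕ := [21, 20, 19, 18, 17, 18, 17, 16, 16, 15, 14, 15, 14, 13, 12, 11, 17, 16, 15, 15, 14, 13, 14, 13, 12, 11, 14, 13, 12, 11, 13, 12, 11, 12, 11, 11, 10, 10, 9, 10, 9, 8, 10, 9, 8, 7, 10, 9, 8, 7, 8, 7, 6, 6, 5, 4, 10, 9, 8, 7, 6, 7, 6, 5, 5, 4, 3, 4, 3, 2, 1, 0]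
def ilE6 : List ℕ := [1, 3, 4, 2, 2, 0, 5, 0, 0, 4, 0, 5, 0, 3, 0, 0, 4, 3, 3, 5, 2, 1, 1, 4, 1, 1, 2, 4, 2, 2, 5, 3, 3, 4, 4, 5, 4, 5, 3, 4, 2, 1, 0, 0, 5, 0, 3, 2, 5, 2, 0, 3, 0, 0, 4, 0, 2, 3, 1, 1, 1, 4, 5, 3, 2, 2, 2, 5, 4, 3, 1, 0]
def alE6 : List ℕ := [37, 36, 39, 37, 36, 42, 39, 37, 36, 46, 39, 37, 36, 42, 37, 36, 39, 36, 37, 56, 42, 39, 37, 36, 46, 37, 36, 39, 36, 37, 42, 36, 37, 39, 46]
def LE6 : List ℕ := [21, 20, 19, 18, 17, 18, 17, 16, 16, 15, 14, 15, 14, 13, 12, 11, 17, 16, 15, 15, 14, 13, 14, 13, 12, 11, 14, 13, 12, 11, 13, 12, 11, 12, 11, 11, 10, 10, 9, 10, 9, 8, 10, 9, 8, 7, 10, 9, 8, 7, 8, 7, 6, 6, 5, 4, 10, 9, 8, 7, 6, 7, 6, 5, 5, 4, 3, 4, 3, 2, 1, 0]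

theorem chkdE6 : chkDistAll chevE6 dlE6 ilE6 = true := by decide +kernel

theorem chklE6 : chkLen chevE6 = true := by decide +kernel

theorem chkcE6 : chkCenFast chevE6 alE6 = true := by decide +kernel

theorem LE6_eq : (OE6.map fun r => dlE6.getD r 0) = LE6 := by decide +kernel

theorem LE6_le : ∀ x ∈ LE6, x ≤ 21 := by decide +kernel

theorem carryE6 : carry LE6 21 ≤ 3 := by decide +kernel

theorem inE6 : InList chevE6 := by simp [InList]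

/-- type E6 -/
theorem hasInvE6 {F : Type u} [Field F] [Finite F] : CfBase.HasInv ↥(chevE6.group F) (3 * Nat.card F ^ 21) :=
  hasInv' inE6 (distOk_all inE6 chkdE6) (cenOk_fast inE6 chklE6 chkcE6) (by
    intro c hc
    simp only [List.mem_cons, List.not_mem_nil, or_false] at hc
    rcases hc with rfl | rfl <;> simp) LE6_eq LE6_le carryE6

def OE7 : List ℕ := List.range chevE7.nroots
def dlE7 : List ℕ := [33, 32, 31, 30, 29, 28, 27, 29, 28, 27, 26, 27, 26, 25, 25, 24, 23, 26, 25, 24, 24, 23, 22, 23, 22, 21, 20, 22, 21, 20, 19, 18, 17, 25, 24, 23, 23, 22, 21, 22, 21, 20, 19, 21, 20, 19, 18, 17, 21, 20, 19, 18, 17, 20, 19, 18, 17, 19, 18, 17, 18, 17, 17, 16, 16, 15, 16, 15, 14, 16, 15, 14, 13, 16, 15, 14, 13, 12, 16, 15, 14, 13, 12, 14, 13, 12, 11, 12, 11, 10, 10, 9, 8, 16, 15, 14, 13, 12, 11, 13, 12, 11, 10, 11, 10, 9, 9, 8, 7,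 10, 9, 8, 8, 7, 6, 7, 6, 5, 4, 6, 5, 4, 3, 2, 1, 0]
def ilE7 : List ℕ := [0, 2, 3, 1, 1, 6, 1, 4, 5, 3, 3, 2, 6, 2, 2, 5, 2, 0, 4, 0, 6, 3, 0, 0, 5, 0, 1, 6, 0, 4, 0, 0, 0, 5, 6, 4, 3, 5, 3, 6, 2, 4, 2, 1, 5, 1, 1, 1, 2, 5, 2, 3, 2, 6, 3, 4, 3, 4, 5, 4, 6, 5, 6, 5, 4, 4, 3, 6, 3, 2, 5, 2, 1, 0, 4, 1, 6, 0, 3, 4, 2, 6, 2, 0, 5, 3, 0, 0, 6, 0, 0, 5, 0, 2, 3, 1, 5, 1, 1, 4, 3, 6, 3, 2, 4, 2, 6, 2, 2, 5, 6, 4, 3, 5, 3, 1, 1, 1, 1, 6, 5, 4, 3, 2, 0, 0]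
def alE7 : List ℕ := [64, 63, 66, 64, 63, 69, 66, 64, 63, 73, 69, 66, 64, 63, 78, 69, 66, 64, 63, 73, 66, 64, 63, 69, 64, 63, 66, 63, 64, 93, 73, 69, 66, 64, 63, 78, 66, 64, 63, 69, 64, 63, 66, 63, 64, 73, 64, 63, 66, 63, 64, 69, 63, 64, 66, 78, 63, 64, 66, 69, 73, 93]
def LE7 : List ℕ := [33, 32, 31, 30, 29, 28, 27, 29, 28, 27, 26, 27, 26, 25, 25, 24, 23, 26, 25, 24, 24, 23, 22, 23, 22, 21, 20, 22, 21, 20, 19, 18, 17, 25, 24, 23, 23, 22, 21, 22, 21, 20, 19, 21, 20, 19, 18, 17, 21, 20, 19, 18, 17, 20, 19, 18, 17, 19, 18, 17, 18, 17, 17, 16, 16, 15, 16, 15, 14, 16, 15, 14, 13, 16, 15, 14, 13, 12, 16, 15, 14, 13, 12, 14, 13, 12, 11, 12, 11, 10, 10, 9, 8, 16, 15, 14, 13, 12, 11, 13, 12, 11, 10, 11, 10, 9, 9, 8, 7, 10, 9, 8, 8, 7, 6, 7, 6, 5, 4, 6, 5, 4, 3, 2, 1, 0]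

theorem chkdE7 : chkDistAll chevE7 dlE7 ilE7 = true := by decide +kernel

theorem chklE7 : chkLen chevE7 = true := by decide +kernel

theorem chkcE7 : chkCenFast chevE7 alE7 = true := by decide +kernel

theorem LE7_eq : (OE7.map fun r => dlE7.getD r 0) = LE7 := by decide +kernel

theorem LE7_le : ∀ x ∈ LE7, x ≤ 33 := by decide +kernel

theorem carryE7 : carry LE7 33 ≤ 3 := by decide +kernel

theorem inE7 : InList chevE7 := by simp [InList]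

/-- type E7 -/
theorem hasInvE7 {F : Type u} [Field F] [Finite F] : CfBase.HasInv ↥(chevE7.group F) (3 * Nat.card F ^ 33) :=
  hasInv' inE7 (distOk_all inE7 chkdE7) (cenOk_fast inE7 chklE7 chkcE7) (by
    intro c hc
    simp only [List.mem_cons, List.not_mem_nil, or_false] at hc
    rcases hc with rfl | rfl <;> simp) LE7_eq LE7_le carryE7

def OE8 : List ℕ := List.range chevE8.nroots
def dlE8 : List ℕ := [57, 56, 55, 54, 53, 52, 51, 51, 50, 49, 48, 47, 46, 45, 50, 49, 48, 47, 46, 45, 44, 47, 46, 45, 44, 43, 45, 44, 43, 42, 43, 42, 41, 41, 40, 39, 44, 43, 42, 41, 42, 41, 40, 40, 39, 38, 41, 40, 39, 39, 38, 37, 38, 37, 36, 35, 40, 39, 38, 38, 37, 36, 37, 36, 35, 34, 36, 35, 34, 33, 32, 35, 34, 33, 32, 31, 30, 29, 39, 38, 37, 37, 36, 35, 36, 35, 34, 33, 35, 34, 33, 32, 31, 34, 33, 32, 31, 30, 29, 34, 33, 32, 31, 30, 29, 33, 32, 31,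 30, 29, 32, 31, 30, 29, 31, 30, 29, 30, 29, 29, 28, 28, 27, 28, 27, 26, 28, 27, 26, 25, 28, 27, 26, 25, 24, 28, 27, 26, 25, 24, 23, 28, 27, 26, 25, 24, 23, 26, 25, 24, 23, 22, 24, 23, 22, 21, 22, 21, 20, 20, 19, 18, 28, 27, 26, 25, 24, 23, 22, 25, 24, 23, 22, 21, 23, 22, 21, 20, 21, 20, 19, 19, 18, 17, 22, 21, 20, 19, 20, 19, 18, 18, 17, 16, 19, 18, 17, 17, 16, 15, 16, 15, 14, 13, 18, 17, 16, 16, 15, 14, 15, 14, 13, 12, 14, 13, 12, 11, 10, 13, 12, 11, 10, 9, 8, 7, 12, 11, 10, 9, 8, 7, 6, 6, 5, 4, 3, 2, 1, 0]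
def ilE8 : List ℕ := [7, 6, 5, 4, 3, 1, 0, 2, 0, 0, 5, 0, 7, 0, 1, 3, 2, 2, 6, 2, 2, 4, 5, 3, 7, 3, 1, 6, 4, 1, 1, 7, 1, 1, 6, 1, 5, 4, 7, 4, 6, 3, 5, 7, 3, 3, 2, 7, 2, 4, 6, 2, 7, 2, 5, 2, 0, 5, 0, 7, 4, 0, 3, 6, 3, 0, 7, 0, 5, 0, 1, 0, 6, 0, 4, 0, 0, 0, 6, 7, 5, 4, 6, 4, 7, 3, 5, 3, 2, 6, 2, 4, 2, 7, 1, 5, 1, 1, 1, 7, 2, 5, 2, 3, 2, 3, 6, 3, 4, 3, 7, 4, 5, 4, 5, 6, 5, 7, 6, 7, 6, 5, 5, 4, 7, 4, 3, 6, 3, 3, 2, 5, 2, 7, 1, 0, 4, 1, 6, 1, 0, 3, 4, 2, 6, 2, 2, 0, 5, 3, 7, 0, 0, 6, 0, 4, 0, 7, 0, 0, 6, 0, 2, 3, 1, 5, 1, 7, 1, 4, 3, 6, 3, 3, 2, 4, 7, 2, 6, 2, 5, 7, 2, 2, 5, 6, 4, 4, 3, 7, 3, 3, 6, 3, 1, 5, 1, 7, 4, 1, 1, 6, 1, 1, 6, 7, 5, 4, 6, 4, 7, 3, 5, 3, 2, 6, 2, 4, 2, 0, 0, 0, 0, 0, 0, 0, 7, 6, 5, 4, 3, 1, 1, 2, 3, 4, 5, 6, 7, 0]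
def alE8 : List ℕ := [121, 120, 123, 121, 120, 126, 123, 121, 120, 130, 126, 123, 121, 120, 135, 130, 126, 123, 121, 120, 141, 130, 126, 123, 121, 120, 135, 126, 123, 121, 120, 130, 123, 121, 120, 126, 121, 120, 123, 120, 121, 162, 135, 130, 126, 123, 121, 120, 141, 126, 123, 121, 120, 130, 123, 121, 120, 126, 121, 120, 123, 120, 121, 135, 123, 121, 120, 126, 121, 120, 123, 120, 121, 130, 121, 120, 123, 120, 121, 126, 120, 121, 123, 141, 121, 120, 123, 120, 121, 126, 120, 121, 123, 130, 120, 121, 123, 126, 135, 120, 121, 123, 126, 130, 141, 162, 120, 121, 123, 126, 130, 135, 141, 135, 130, 126, 123, 121, 120]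
def LE8 : List ℕ := [57, 56, 55, 54, 53, 52, 51, 51, 50, 49, 48, 47, 46, 45, 50, 49, 48, 47, 46, 45, 44, 47, 46, 45, 44, 43, 45, 44, 43, 42, 43, 42, 41, 41, 40, 39, 44, 43, 42, 41, 42, 41, 40, 40, 39, 38, 41, 40, 39, 39, 38, 37, 38, 37, 36, 35, 40, 39, 38, 38, 37, 36, 37, 36, 35, 34, 36, 35, 34, 33, 32, 35, 34, 33, 32, 31, 30, 29, 39, 38, 37, 37, 36, 35, 36, 35, 34, 33, 35, 34, 33, 32, 31, 34, 33, 32, 31, 30, 29, 34, 33, 32, 31, 30, 29, 33, 32, 31, 30, 29, 32, 31, 30, 29, 31, 30, 29, 30, 29, 29, 28, 28, 27, 28, 27, 26, 28, 27, 26, 25, 28, 27, 26, 25, 24, 28, 27, 26, 25, 24, 23, 28, 27, 26, 25, 24, 23, 26, 25, 24, 23, 22, 24, 23, 22, 21, 22, 21, 20, 20, 19, 18, 28, 27, 26, 25, 24, 23, 22, 25, 24, 23, 22, 21, 23, 22, 21, 20, 21, 20, 19, 19, 18, 17, 22, 21, 20, 19, 20, 19, 18, 18, 17, 16, 19, 18, 17, 17, 16, 15, 16, 15, 14, 13, 18,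 17, 16, 16, 15, 14, 15, 14, 13, 12, 14, 13, 12, 11, 10, 13, 12, 11, 10, 9, 8, 7, 12, 11, 10, 9, 8, 7, 6, 6, 5, 4, 3, 2, 1, 0]

theorem chkdE8 : chkDistAll chevE8 dlE8 ilE8 = true := by decide +kernel

theorem chklE8 : chkLen chevE8 = true := by decide +kernel

theorem chkcE8 : chkCenFast chevE8 alE8 = true := by decide +kernel

theorem LE8_eq : (OE8.map fun r => dlE8.getD r 0) = LE8 := by decide +kernel

theorem LE8_le : ∀ x ∈ LE8, x ≤ 57 := by decide +kernel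

theorem carryE8 : carry LE8 57 ≤ 3 := by decide +kernel

theorem inE8 : InList chevE8 := by simp [InList]

/-- type E8 -/
theorem hasInvE8 {F : Type u} [Field F] [Finite F] : CfBase.HasInv ↥(chevE8.group F) (3 * Nat.card F ^ 57) :=
  hasInv' inE8 (distOk_all inE8 chkdE8) (cenOk_fast inE8 chklE8 chkcE8) (by
    intro c hc
    simp only [List.mem_cons, List.not_mem_nil, or_false] at hc
    rcases hc with rfl | rfl <;> simp) LE8_eq LE8_le carryE8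

end Cfsg.Agent.H430.CfChev
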