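import Cfsg.Agent.H430.CfAll
import Cfsg.Agent.H933.BigKnown
import Cfsg.Agent.S0000

/-!
# The core-free maximal subgroup
-/

set_option autoImplicit false

namespace Cfsg.Agent.H430.CfFinal

open Cfsg Cfsg.Agent.H430.CfBase

universe u

theorem final {G : Type u} [Group G] [Finite G] (S : Subgroup G) [S.Normal] (hS : IsSimpleGroup S)
    (hSc : ¬ IsMulCommutative S) (hC : Subgroup.centralizer (S : Set G) = ⊥) :
    ∃ M : Subgroup G, IsCoatom M ∧ M.normalCore = ⊥ ∧ ∀ K : Subgroup S, K ≠ ⊤ → M.index ≤ K.index ^ 2 := by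
  have hk : IsKnownSimple' S := Cfsg.Agent.S0000.result
  obtain ⟨H, hH, hlt⟩ := H933.big_known hSc hk
  exact of_row S hS hC (CfAll.row_known hSc hk) ⟨H, hH, hlt⟩

end Cfsg.Agent.H430.CfFinal
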