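import Cfsg.Agent.H430.CfPair
import Cfsg.Agent.H69.OutGF
import Cfsg.Agent.H934.HeisF4G2

/-!
# Root subgroups in proper subgroups of `G₂(q)`, `q = 3^f ≥ 9`

`top_of` : if for every `g` the subgroup `H` contains the conjugate by `g` of the long root group `X_{3a+2b}` or that of
the short root group `X_{2a+b}`, then it contains all long root groups.
-/

set_option autoImplicit false

namespace Cfsg.Agent.H430.CfG2Frame

open Cfsg Cfsg.Lie Cfsg.Agent.ChevalleyStructure Cfsg.Agent.ChevalleyStructure.Elts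
  Cfsg.Agent.H70.ChevFix Cfsg.Agent.H69.OutGF

universe u

variable {F : Type u} [Field F]

/-- `X_r^g ≤ H` -/
def PP (H : Subgroup ↥(chevG2.group F)) (r : ℕ) (g : ↥(chevG2.group F)) : Prop :=
  ∀ t : F, g⁻¹ * xe hG2 r t * g ∈ H

theorem PP_reflect (H : Subgroup ↥(chevG2.group F)) {i s : ℕ} (hi : i < chevG2.rank) (hs : s < chevG2.nroots)
    (g : ↥(chevG2.group F)) :
    PP H (chevG2.reflectRoot i s) g ↔ PP H s ((H79.SimpleGen.nS hG2 (chevG2.simple i) (1 : F))⁻¹ * g) := by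
  have key : ∀ t : F, xe hG2 (chevG2.reflectRoot i s) t =
      H79.SimpleGen.nS hG2 (chevG2.simple i) 1 * xe hG2 s (((NSimple.eta chevG2 i s : ℤ) : F) * t) *
        (H79.SimpleGen.nS hG2 (chevG2.simple i) 1)⁻¹ := fun t => H79.SimpleGen.xS_reflect hG2 hi hs t
  set n := H79.SimpleGen.nS hG2 (chevG2.simple i) (1 : F) with hn
  constructor
  · intro h t
    have h1 := h (((NSimple.eta chevG2 i s : ℤ) : F) * t)
    rw [key, ← mul_assoc (((NSimple.eta chevG2 i s : ℤ) : F)), H79.SimpleGen.eta_mul_self hG2 hi hs, one_mul] at h1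
    have e : (n⁻¹ * g)⁻¹ * xe hG2 s t * (n⁻¹ * g) = g⁻¹ * (n * xe hG2 s t * n⁻¹) * g := by group
    rw [e]
    exact h1
  · intro h t
    have h1 := h (((NSimple.eta chevG2 i s : ℤ) : F) * t)
    rw [key]
    have e : (n⁻¹ * g)⁻¹ * xe hG2 s (((NSimple.eta chevG2 i s : ℤ) : F) * t) * (n⁻¹ * g) =
        g⁻¹ * (n * xe hG2 s (((NSimple.eta chevG2 i s : ℤ) : F) * t) * n⁻¹) * g := by group
    rw [← e]
    exact h1

/-- The commutator formula. -/
theorem comm {r s : ℕ} (hr : r < chevG2.nroots) (hs : s < chevG2.nroots) (hrs : s ≠ r) (hneg : s ≠ chevG2.neg r)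
    (t u : F) : xe hG2 s u * xe hG2 r t = xe hG2 r t * xe hG2 s u *
      (((chevG2.commTerms r s).map fun c => xe hG2 c.1 ((c.2.1 : F) * (-t) ^ c.2.2.1 * u ^ c.2.2.2)).prod) := by
  have h1 := UnipProd.xG_comm hG2 hr hs hrs hneg t u
  have h2 : ∀ l : List (ℕ × ℤ × ℕ × ℕ),
      wordG hG2 (l.map fun c => (c.1, (c.2.1 : F) * (-t) ^ c.2.2.1 * u ^ c.2.2.2)) =
      (((l.map fun c => xe hG2 c.1 ((c.2.1 : F) * (-t) ^ c.2.2.1 * u ^ c.2.2.2)).prod : ↥(chevG2.group F)) :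
        GL chevG2.Idx F) := by
    intro l
    induction l with
    | nil => rfl
    | cons a l ih =>
      rw [List.map_cons, wordG_cons, ih, List.map_cons, List.prod_cons]
      rfl
  apply Subtype.ext
  rw [Subgroup.coe_mul, Subgroup.coe_mul, Subgroup.coe_mul, ← h2]
  exact h1

/-- commuting root elements in characteristic 3 -/
theorem comm_three (h3 : (3 : F) = 0) {r s : ℕ} (hr : r < chevG2.nroots) (hs : s < chevG2.nroots) (hrs : s ≠ r)
    (hneg : s ≠ chevG2.neg r) (h : ∀ q ∈ chevG2.commTerms r s, q.2.1 % 3 = 0) (t u : F) :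
    xe hG2 s u * xe hG2 r t = xe hG2 r t * xe hG2 s u := by
  rw [comm hr hs hrs hneg]
  have h4 : ∀ l : List (ℕ × ℤ × ℕ × ℕ), (∀ q ∈ l, q.2.1 % 3 = 0) →
      (l.map fun c => xe hG2 c.1 ((c.2.1 : F) * (-t) ^ c.2.2.1 * u ^ c.2.2.2)).prod = 1 := by
    intro l
    induction l with
    | nil => intro _; rfl
    | cons a l ih =>
      intro hl
      rw [List.map_cons, List.prod_cons, ih fun q hq => hl q (List.mem_cons_of_mem _ hq), mul_one]
      obtain ⟨k, hk⟩ := Int.dvd_of_emod_eq_zero (hl a List.mem_cons_self)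
      rw [hk, Int.cast_mul, Int.cast_ofNat, h3, zero_mul, zero_mul, zero_mul, xe_zero]
  rw [h4 _ h, mul_one]

theorem tab76 : chevG2.commTerms 7 6 = [(8, -1, 1, 1), (9, 1, 2, 1), (10, 1, 3, 1), (11, 1, 3, 2)] := by
  decide +kernel

theorem tab104 : chevG2.commTerms 10 4 = [(9, -1, 1, 1), (8, -1, 1, 2), (6, -1, 1, 3), (11, 2, 2, 3)] := by
  decide +kernel

theorem abel : ∀ r ∈ [8, 9, 10, 11], ∀ s ∈ [8, 9, 10, 11], ∀ q ∈ chevG2.commTerms r s, q.2.1 % 3 = 0 := by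
  decide +kernel

theorem abel2 : ∀ q ∈ chevG2.commTerms 6 11, q.2.1 % 3 = 0 := by decide +kernel

theorem abel3 : ∀ q ∈ chevG2.commTerms 10 11, q.2.1 % 3 = 0 := by decide +kernel

theorem neqs : (6 : ℕ) ≠ 7 ∧ 6 ≠ chevG2.neg 7 ∧ 4 ≠ chevG2.neg 10 ∧ 11 ≠ chevG2.neg 6 ∧ 11 ≠ chevG2.neg 10 ∧
    (∀ r ∈ [8, 9, 10, 11], ∀ s ∈ [8, 9, 10, 11], s ≠ chevG2.neg r) := by decide +kernel

theorem refl_tab : chevG2.reflectRoot 0 11 = 11 ∧ chevG2.reflectRoot 0 9 = 8 ∧ chevG2.reflectRoot 1 11 = 10 ∧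
    chevG2.reflectRoot 1 9 = 9 ∧ chevG2.reflectRoot 0 10 = 6 ∧ chevG2.reflectRoot 1 6 = 5 ∧
    chevG2.reflectRoot 1 8 = 7 ∧ chevG2.reflectRoot 0 5 = 1 ∧ chevG2.reflectRoot 0 7 = 4 ∧
    chevG2.reflectRoot 1 7 = 8 ∧ chevG2.reflectRoot 0 8 = 9 ∧ chevG2.reflectRoot 1 10 = 11 := by decide +kernel

theorem nr : chevG2.nroots = 12 := rfl

theorem rk : chevG2.rank = 2 := rfl

/-- The subgroup `gHg⁻¹`. -/
def cj (H : Subgroup ↥(chevG2.group F)) (g : ↥(chevG2.group F)) : Subgroup ↥(chevG2.group F) :=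
  H.comap (MulAut.conj g⁻¹).toMonoidHom

theorem mem_cj {H : Subgroup ↥(chevG2.group F)} {g x : ↥(chevG2.group F)} : x ∈ cj H g ↔ g⁻¹ * x * g ∈ H := by
  unfold cj
  rw [Subgroup.mem_comap]
  simp

theorem PP_iff {H : Subgroup ↥(chevG2.group F)} {r : ℕ} {g : ↥(chevG2.group F)} :
    PP H r g ↔ ∀ t : F, xe hG2 r t ∈ cj H g := by
  unfold PP
  simp only [mem_cj]

/-- The closure property. -/
theorem closure (h3 : (3 : F) = 0) (hcube : ∀ x : F, ∃ y : F, y ^ 3 = x) {t₀ : F} (ht₀ : t₀ ≠ 0) (ht₁ : t₀ ^ 2 ≠ 1)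
    (H : Subgroup ↥(chevG2.group F)) (g : ↥(chevG2.group F)) (h7 : PP H 7 g) (h6 : PP H 6 g) : PP H 10 g := by
  rw [PP_iff] at *
  set K := cj H g with hK
  have cm : ∀ r ∈ [8, 9, 10, 11], ∀ s ∈ [8, 9, 10, 11], ∀ t u : F,
      xe hG2 s u * xe hG2 r t = xe hG2 r t * xe hG2 s u := by
    intro r hr s hs t u
    by_cases hrs : s = r
    · rw [hrs, ← xe_add, ← xe_add, add_comm]
    · refine comm_three h3 ?_ ?_ hrs (neqs.2.2.2.2.2 r hr s hs) (abel r hr s hs) t u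
      · rw [nr]; simp only [List.mem_cons, List.not_mem_nil, or_false] at hr; omega
      · rw [nr]; simp only [List.mem_cons, List.not_mem_nil, or_false] at hs; omega
  have hy : ∀ t u : F, xe hG2 8 (t * u) * (xe hG2 9 (t ^ 2 * u) * (xe hG2 10 (-(t ^ 3 * u)) *
      xe hG2 11 (-(t ^ 3 * u ^ 2)))) ∈ K := by
    intro t u
    have h1 := comm (F := F) (r := 7) (s := 6) (by rw [nr]; norm_num) (by rw [nr]; norm_num) neqs.1 neqs.2.1 t u
    rw [tab76] at h1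
    simp only [List.map_cons, List.map_nil, List.prod_cons, List.prod_nil, mul_one] at h1
    have e : xe hG2 8 (t * u) * (xe hG2 9 (t ^ 2 * u) * (xe hG2 10 (-(t ^ 3 * u)) *
        xe hG2 11 (-(t ^ 3 * u ^ 2)))) = (xe hG2 7 t * xe hG2 6 u)⁻¹ * (xe hG2 6 u * xe hG2 7 t) := by
      have e1 : (((-1 : ℤ) : F) * (-t) ^ 1 * u ^ 1) = t * u := by push_cast; ring
      have e2 : (((1 : ℤ) : F) * (-t) ^ 2 * u ^ 1) = t ^ 2 * u := by push_cast; ring
      have e3 : (((1 : ℤ) : F) * (-t) ^ 3 * u ^ 1) = -(t ^ 3 * u) := by push_cast; ring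
      have e4 : (((1 : ℤ) : F) * (-t) ^ 3 * u ^ 2) = -(t ^ 3 * u ^ 2) := by push_cast; ring
      rw [e1, e2, e3, e4] at h1
      rw [h1, inv_mul_cancel_left]
    rw [e]
    exact K.mul_mem (K.inv_mem (K.mul_mem (h7 t) (h6 u))) (K.mul_mem (h6 u) (h7 t))
  -- the root 11
  have h11 : ∀ x : F, xe hG2 11 x ∈ K := by
    intro x
    obtain ⟨t, rfl⟩ := hcube x
    have h1 := K.mul_mem (hy t 1) (hy t (-1))
    have e : xe hG2 8 (t * 1) * (xe hG2 9 (t ^ 2 * 1) * (xe hG2 10 (-(t ^ 3 * 1)) * xe hG2 11 (-(t ^ 3 * 1 ^ 2)))) *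
        (xe hG2 8 (t * -1) * (xe hG2 9 (t ^ 2 * -1) * (xe hG2 10 (-(t ^ 3 * -1)) * xe hG2 11 (-(t ^ 3 * (-1) ^ 2))))) =
        xe hG2 11 (t ^ 3) := by
      have c1 := cm 8 (by simp) 9 (by simp) (t * -1) (t ^ 2 * 1)
      have c2 := cm 8 (by simp) 10 (by simp) (t * -1) (-(t ^ 3 * 1))
      have c3 := cm 8 (by simp) 11 (by simp) (t * -1) (-(t ^ 3 * 1 ^ 2))
      have c4 := cm 9 (by simp) 10 (by simp) (t ^ 2 * -1) (-(t ^ 3 * 1))
      have c5 := cm 9 (by simp) 11 (by simp) (t ^ 2 * -1) (-(t ^ 3 * 1 ^ 2))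
      have c6 := cm 10 (by simp) 11 (by simp) (-(t ^ 3 * -1)) (-(t ^ 3 * 1 ^ 2))
      have a1 : xe hG2 8 (t * 1) * xe hG2 8 (t * -1) = 1 := by
        rw [← xe_add, show t * 1 + t * -1 = 0 by ring, xe_zero]
      have a2 : xe hG2 9 (t ^ 2 * 1) * xe hG2 9 (t ^ 2 * -1) = 1 := by
        rw [← xe_add, show t ^ 2 * 1 + t ^ 2 * -1 = 0 by ring, xe_zero]
      have a3 : xe hG2 10 (-(t ^ 3 * 1)) * xe hG2 10 (-(t ^ 3 * -1)) = 1 := by
        rw [← xe_add, show -(t ^ 3 * 1) + -(t ^ 3 * -1) = 0 by ring, xe_zero]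
      have a4 : xe hG2 11 (-(t ^ 3 * 1 ^ 2)) * xe hG2 11 (-(t ^ 3 * (-1) ^ 2)) = xe hG2 11 (t ^ 3) := by
        rw [← xe_add]
        congr 1
        linear_combination (-t ^ 3) * h3
      generalize xe hG2 8 (t * 1) = A at *
      generalize xe hG2 8 (t * -1) = A' at *
      generalize xe hG2 9 (t ^ 2 * 1) = B at *
      generalize xe hG2 9 (t ^ 2 * -1) = B' at *
      generalize xe hG2 10 (-(t ^ 3 * 1)) = C at *
      generalize xe hG2 10 (-(t ^ 3 * -1)) = C' at *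
      generalize xe hG2 11 (-(t ^ 3 * 1 ^ 2)) = D at *
      generalize xe hG2 11 (-(t ^ 3 * (-1) ^ 2)) = D' at *
      calc A * (B * (C * D)) * (A' * (B' * (C' * D'))) = A * B * C * (D * A') * B' * C' * D' := by group
        _ = A * B * (C * A') * D * B' * C' * D' := by rw [c3]; group
        _ = A * (B * A') * C * (D * B') * C' * D' := by rw [c2]; group
        _ = (A * A') * B * (C * B') * (D * C') * D' := by rw [c1, c5]; group
        _ = (A * A') * (B * B') * (C * C') * (D * D') := by rw [c4, c6]; group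
        _ = xe hG2 11 (t ^ 3) := by rw [a1, a2, a3, a4]; group
    rw [e] at h1
    exact h1
  have hz : ∀ t u : F, xe hG2 8 (t * u) * (xe hG2 9 (t ^ 2 * u) * xe hG2 10 (-(t ^ 3 * u))) ∈ K := by
    intro t u
    have h1 := K.mul_mem (hy t u) (K.inv_mem (h11 (-(t ^ 3 * u ^ 2))))
    have e : xe hG2 8 (t * u) * (xe hG2 9 (t ^ 2 * u) * (xe hG2 10 (-(t ^ 3 * u)) *
      xe hG2 11 (-(t ^ 3 * u ^ 2)))) * (xe hG2 11 (-(t ^ 3 * u ^ 2)))⁻¹ =
      xe hG2 8 (t * u) * (xe hG2 9 (t ^ 2 * u) * xe hG2 10 (-(t ^ 3 * u))) := by group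
    rwa [e] at h1
  -- the root 9
  have h9 : ∀ x : F, xe hG2 9 x ∈ K := by
    intro x
    have h1 := K.mul_mem (hz 1 (-x)) (hz (-1) (-x))
    have e : xe hG2 8 (1 * -x) * (xe hG2 9 (1 ^ 2 * -x) * xe hG2 10 (-(1 ^ 3 * -x))) *
        (xe hG2 8 (-1 * -x) * (xe hG2 9 ((-1) ^ 2 * -x) * xe hG2 10 (-((-1) ^ 3 * -x)))) = xe hG2 9 x := by
      have c1 := cm 8 (by simp) 9 (by simp) (-1 * -x) (1 ^ 2 * -x)
      have c2 := cm 8 (by simp) 10 (by simp) (-1 * -x) (-(1 ^ 3 * -x))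
      have c4 := cm 9 (by simp) 10 (by simp) ((-1) ^ 2 * -x) (-(1 ^ 3 * -x))
      have a1 : xe hG2 8 (1 * -x) * xe hG2 8 (-1 * -x) = 1 := by
        rw [← xe_add, show 1 * -x + -1 * -x = 0 by ring, xe_zero]
      have a2 : xe hG2 9 (1 ^ 2 * -x) * xe hG2 9 ((-1) ^ 2 * -x) = xe hG2 9 x := by
        rw [← xe_add]
        congr 1
        linear_combination (-x) * h3
      have a3 : xe hG2 10 (-(1 ^ 3 * -x)) * xe hG2 10 (-((-1) ^ 3 * -x)) = 1 := by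
        rw [← xe_add, show -(1 ^ 3 * -x) + -((-1) ^ 3 * -x) = 0 by ring, xe_zero]
      generalize xe hG2 8 (1 * -x) = A at *
      generalize xe hG2 8 (-1 * -x) = A' at *
      generalize xe hG2 9 (1 ^ 2 * -x) = B at *
      generalize xe hG2 9 ((-1) ^ 2 * -x) = B' at *
      generalize xe hG2 10 (-(1 ^ 3 * -x)) = C at *
      generalize xe hG2 10 (-((-1) ^ 3 * -x)) = C' at *
      calc A * (B * C) * (A' * (B' * C')) = A * B * (C * A') * B' * C' := by group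
        _ = A * (B * A') * (C * B') * C' := by rw [c2]; group
        _ = (A * A') * (B * B') * (C * C') := by rw [c1, c4]; group
        _ = xe hG2 9 x := by rw [a1, a2, a3]; group
    rw [e] at h1
    exact h1
  have hv : ∀ t u : F, xe hG2 8 (t * u) * xe hG2 10 (-(t ^ 3 * u)) ∈ K := by
    intro t u
    have h1 := K.mul_mem (hz t u) (K.inv_mem (h9 (t ^ 2 * u)))
    have c := cm 9 (by simp) 10 (by simp) (t ^ 2 * u) (-(t ^ 3 * u))
    have e : xe hG2 8 (t * u) * (xe hG2 9 (t ^ 2 * u) * xe hG2 10 (-(t ^ 3 * u))) * (xe hG2 9 (t ^ 2 * u))⁻¹ =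
        xe hG2 8 (t * u) * xe hG2 10 (-(t ^ 3 * u)) := by
      rw [← c]; group
    rwa [e] at h1
  intro x
  -- x₈(u) x₁₀(-u), x₈(u) x₁₀(-t²u)
  obtain ⟨u, hu⟩ : ∃ u : F, (1 - t₀ ^ 2) * u = x :=
    ⟨x / (1 - t₀ ^ 2), mul_div_cancel₀ _ (sub_ne_zero.2 (Ne.symm ht₁))⟩
  have h1 := K.mul_mem (K.inv_mem (hv 1 u)) (hv t₀ (u / t₀))
  have e1 : t₀ * (u / t₀) = u := mul_div_cancel₀ u ht₀
  have e2 : t₀ ^ 3 * (u / t₀) = t₀ ^ 2 * u := by field_simp
  rw [e1, e2, one_mul, one_pow, one_mul] at h1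
  have e3 : (xe hG2 8 u * xe hG2 10 (-u))⁻¹ * (xe hG2 8 u * xe hG2 10 (-(t₀ ^ 2 * u))) = xe hG2 10 x := by
    rw [mul_inv_rev, mul_assoc, inv_mul_cancel_left, ← xe_neg, ← xe_add]
    congr 1
    rw [← hu]; ring
  rwa [e3] at h1

/-- The last step. -/
theorem last (h3 : (3 : F) = 0) (hcube : ∀ x : F, ∃ y : F, y ^ 3 = x) (H : Subgroup ↥(chevG2.group F))
    (g : ↥(chevG2.group F)) (h9 : PP H 9 g) (h8 : PP H 8 g) (h4 : ∀ c : F, PP H 4 (xe hG2 10 c * g)) : PP H 11 g := by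
  have h4' : ∀ c t : F, (xe hG2 10 c)⁻¹ * xe hG2 4 t * xe hG2 10 c ∈ cj H g := by
    intro c t
    rw [mem_cj]
    have h1 := h4 c t
    have e : g⁻¹ * ((xe hG2 10 c)⁻¹ * xe hG2 4 t * xe hG2 10 c) * g =
        (xe hG2 10 c * g)⁻¹ * xe hG2 4 t * (xe hG2 10 c * g) := by group
    rw [e]; exact h1
  rw [PP_iff] at *
  set K := cj H g with hK
  have h40 : ∀ t : F, xe hG2 4 t ∈ K := by
    intro t
    have := h4' 0 t
    rwa [xe_zero, inv_one, one_mul, mul_one] at this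
  have hy : ∀ c t : F, xe hG2 6 (c * t ^ 3) * xe hG2 11 (2 * c ^ 2 * t ^ 3) ∈ K := by
    intro c t
    have h1 := comm (F := F) (r := 10) (s := 4) (by rw [nr]; norm_num) (by rw [nr]; norm_num) (by norm_num)
      neqs.2.2.1 c t
    rw [tab104] at h1
    simp only [List.map_cons, List.map_nil, List.prod_cons, List.prod_nil, mul_one] at h1
    have h2 : (xe hG2 4 t)⁻¹ * ((xe hG2 10 c)⁻¹ * xe hG2 4 t * xe hG2 10 c) ∈ K :=
      K.mul_mem (K.inv_mem (h40 t)) (h4' c t)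
    have e : (xe hG2 4 t)⁻¹ * ((xe hG2 10 c)⁻¹ * xe hG2 4 t * xe hG2 10 c) =
        (xe hG2 10 c * xe hG2 4 t)⁻¹ * (xe hG2 4 t * xe hG2 10 c) := by group
    rw [e, h1, inv_mul_cancel_left] at h2
    have h5 : ∀ {a b : ↥(chevG2.group F)}, a ∈ K → a * b ∈ K → b ∈ K := fun ha hab => by
      have := K.mul_mem (K.inv_mem ha) hab
      rwa [inv_mul_cancel_left] at this
    have h6 := h5 (h8 _) (h5 (h9 _) h2)
    have e2 : (((-1 : ℤ) : F) * (-c) ^ 1 * t ^ 3) = c * t ^ 3 := by push_cast; ring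
    have e3 : (((2 : ℤ) : F) * (-c) ^ 2 * t ^ 3) = 2 * c ^ 2 * t ^ 3 := by push_cast; ring
    rw [e2, e3] at h6
    exact h6
  intro x
  obtain ⟨t, rfl⟩ := hcube x
  have h1 := K.mul_mem (hy 1 t) (hy (-1) t)
  have c1 := comm_three h3 (r := 6) (s := 11) (by rw [nr]; norm_num) (by rw [nr]; norm_num) (by norm_num)
    neqs.2.2.2.1 abel2 (-1 * t ^ 3) (2 * 1 ^ 2 * t ^ 3)
  have e : xe hG2 6 (1 * t ^ 3) * xe hG2 11 (2 * 1 ^ 2 * t ^ 3) *
      (xe hG2 6 (-1 * t ^ 3) * xe hG2 11 (2 * (-1) ^ 2 * t ^ 3)) = xe hG2 11 (t ^ 3) := by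
    calc xe hG2 6 (1 * t ^ 3) * xe hG2 11 (2 * 1 ^ 2 * t ^ 3) *
        (xe hG2 6 (-1 * t ^ 3) * xe hG2 11 (2 * (-1) ^ 2 * t ^ 3)) =
        xe hG2 6 (1 * t ^ 3) * (xe hG2 11 (2 * 1 ^ 2 * t ^ 3) * xe hG2 6 (-1 * t ^ 3)) *
          xe hG2 11 (2 * (-1) ^ 2 * t ^ 3) := by group
      _ = (xe hG2 6 (1 * t ^ 3) * xe hG2 6 (-1 * t ^ 3)) * (xe hG2 11 (2 * 1 ^ 2 * t ^ 3) *
          xe hG2 11 (2 * (-1) ^ 2 * t ^ 3)) := by rw [c1]; group
      _ = xe hG2 11 (t ^ 3) := by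
        rw [← xe_add, ← xe_add, show 1 * t ^ 3 + -1 * t ^ 3 = 0 by ring, xe_zero, one_mul]
        congr 1
        linear_combination (t ^ 3) * h3
  rwa [e] at h1

/-- **`H` contains all long root groups.** -/
theorem top_of (h3 : (3 : F) = 0) (hcube : ∀ x : F, ∃ y : F, y ^ 3 = x) {t₀ : F} (ht₀ : t₀ ≠ 0) (ht₁ : t₀ ^ 2 ≠ 1)
    (H : Subgroup ↥(chevG2.group F)) (hA : ∀ g, PP H 11 g ∨ PP H 9 g) (g : ↥(chevG2.group F)) : PP H 11 g := by
  have hA' : ∀ (i r s : ℕ), i < 2 → r < 12 → s < 12 → (∀ g, PP H r g ∨ PP H s g) →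
      ∀ g, PP H (chevG2.reflectRoot i r) g ∨ PP H (chevG2.reflectRoot i s) g := by
    intro i r s hi hr hs h g
    rw [PP_reflect H hi hr, PP_reflect H hi hs]
    exact h _
  obtain ⟨r1, r2, r3, r4, r5, r6, r7, r8, r9, r10, r11, r12⟩ := refl_tab
  have a1 : ∀ g, PP H 11 g ∨ PP H 8 g := by
    have := hA' 0 11 9 (by norm_num) (by norm_num) (by norm_num) hA
    rwa [r1, r2] at this
  have a2 : ∀ g, PP H 10 g ∨ PP H 9 g := by
    have := hA' 1 11 9 (by norm_num) (by norm_num) (by norm_num) hA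
    rwa [r3, r4] at this
  have a3 : ∀ g, PP H 6 g ∨ PP H 8 g := by
    have := hA' 0 10 9 (by norm_num) (by norm_num) (by norm_num) a2
    rwa [r5, r2] at this
  have a4 : ∀ g, PP H 5 g ∨ PP H 7 g := by
    have := hA' 1 6 8 (by norm_num) (by norm_num) (by norm_num) a3
    rwa [r6, r7] at this
  have a5 : ∀ g, PP H 1 g ∨ PP H 4 g := by
    have := hA' 0 5 7 (by norm_num) (by norm_num) (by norm_num) a4
    rwa [r8, r9] at this
  have hcl : ∀ g, PP H 9 g → PP H 1 g → PP H 11 g := by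
    have c0 := closure h3 hcube ht₀ ht₁ H
    have hC : ∀ (i a b c : ℕ), i < 2 → a < 12 → b < 12 → c < 12 → (∀ g, PP H a g → PP H b g → PP H c g) →
        ∀ g, PP H (chevG2.reflectRoot i a) g → PP H (chevG2.reflectRoot i b) g → PP H (chevG2.reflectRoot i c) g := by
      intro i a b c hi ha hb hc h g
      rw [PP_reflect H hi ha, PP_reflect H hi hb, PP_reflect H hi hc]
      exact h _
    have c1 := hC 1 7 6 10 (by norm_num) (by norm_num) (by norm_num) (by norm_num) c0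
    rw [r10, r6, r12] at c1
    have c2 := hC 0 8 5 11 (by norm_num) (by norm_num) (by norm_num) (by norm_num) c1
    rwa [r11, r8, r1] at c2
  have key : ∀ g, ¬ PP H 11 g → PP H 9 g ∧ PP H 8 g ∧ PP H 4 g := by
    intro g hg
    have b1 := (hA g).resolve_left hg
    have b2 := (a1 g).resolve_left hg
    have b3 : ¬ PP H 1 g := fun h => hg (hcl g b1 h)
    exact ⟨b1, b2, (a5 g).resolve_left b3⟩
  by_contra hg
  obtain ⟨b1, b2, b3⟩ := key g hg
  apply hg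
  refine last h3 hcube H g b1 b2 fun c => ?_
  refine (key _ fun h => hg ?_).2.2
  intro t
  have h1 := h t
  have c1 := comm_three h3 (r := 10) (s := 11) (by rw [nr]; norm_num) (by rw [nr]; norm_num) (by norm_num)
    neqs.2.2.2.2.1 abel3 c t
  have e : (xe hG2 10 c * g)⁻¹ * xe hG2 11 t * (xe hG2 10 c * g) =
      g⁻¹ * ((xe hG2 10 c)⁻¹ * (xe hG2 11 t * xe hG2 10 c)) * g := by group
  rw [e, c1, inv_mul_cancel_left] at h1
  exact h1

end Cfsg.Agent.H430.CfG2Frame
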