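import Cfsg.Agent.H430.CfG2Three
import Cfsg.Agent.H430.CfRowChev
import Cfsg.Agent.H430.CfGraph
import Cfsg.Agent.H933.BigChev

/-!
# Row: `G₂(q)`
-/

set_option autoImplicit false

namespace Cfsg.Agent.H430.CfG2Row

open Cfsg Cfsg.Lie Cfsg.Agent.ChevalleyStructure Cfsg.Agent.ChevalleyStructure.Elts
  Cfsg.Agent.ChevalleyStructure.NConj Cfsg.Agent.S1042
  Cfsg.Agent.Schreier.ChevLocal Cfsg.Agent.H70.ChevFix Cfsg.Agent.H69.OutGF Cfsg.Agent.H430.CfBase

universe u

theorem simple_G2 {F : Type u} [Field F] [Finite F] (hq : 3 ≤ Nat.card F) :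
    IsSimpleGroup ↥(chevG2.group F) := by
  have : Fintype F := Fintype.ofFinite F
  refine (Cfsg.Agent.S1055.result (F := F) ?_).1
  by_contra hno
  push Not at hno
  have h1 : Nat.card F ≤ 2 := by
    rw [Nat.card_eq_fintype_card]
    classical
    have h2 : (Finset.univ : Finset F) ⊆ {0, 1} := by
      intro a _
      by_cases ha : a = 0
      · simp [ha]
      · simp [hno a ha]
    calc Fintype.card F = (Finset.univ : Finset F).card := rfl
      _ ≤ ({0, 1} : Finset F).card := Finset.card_le_card h2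
      _ ≤ 2 := Finset.card_le_two
  omega

theorem BB_ne_top {F : Type u} [Field F] : BB chevG2 F ≠ ⊤ := by
  intro h
  have h1 : xe hG2 (chevG2.neg (chevG2.simple 0)) (1 : F) ∈ BB chevG2 F := by rw [h]; exact Subgroup.mem_top _
  exact neg_not_mem_borel hG2 (i := 0) (by decide) (u := (1 : F)) one_ne_zero h1

theorem le_card_BB {F : Type u} [Field F] [Finite F] :
    Nat.card F ^ 6 * (Nat.card F - 1) ^ 2 ≤ Nat.card (BB chevG2 F) := by
  have : Fintype F := Fintype.ofFinite F
  have hle : chevG2.borelSubgroup F ≤ chevG2.group F := (S1043.result (F := F) chevG2 hG2).1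
  have h0 : Nat.card (BB chevG2 F) = Nat.card (chevG2.borelSubgroup F) :=
    Nat.card_congr (Subgroup.subgroupOfEquivOfLe hle).toEquiv
  have hu : Nat.card (chevG2.posUnipotent F) = Fintype.card F ^ 6 := S1027.result chevG2 hG2
  rw [h0, ← card_diag_G2, Nat.card_eq_fintype_card, ← hu]
  have hfB : Finite (chevG2.borelSubgroup F) := inferInstance
  exact H933.card_mul_le le_sup_left le_sup_right (S1036.result (F := F) chevG2 hG2).2

theorem index_BB_le {F : Type u} [Field F] [Finite F] (hq : 3 ≤ Nat.card F) :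
    (BB chevG2 F).index ≤ (Nat.card F ^ 2 * (Nat.card F ^ 2 - 1)) ^ 2 := by
  have : Fintype F := Fintype.ofFinite F
  have hfinG : Finite ↥(chevG2.group F) := inferInstance
  have h1 := (BB chevG2 F).index_mul_card
  have h2 : Nat.card ↥(chevG2.group F) =
      Nat.card F ^ 6 * (Nat.card F ^ 2 - 1) * (Nat.card F ^ 6 - 1) := by
    rw [Nat.card_eq_fintype_card (α := F)]
    exact S1059.result rfl
  have h3 := le_card_BB (F := F)
  rw [h2] at h1
  set q := Nat.card F with hqd
  have hqpos : 0 < q := by omega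
  have h4 : (BB chevG2 F).index * (q ^ 6 * (q - 1) ^ 2) ≤ q ^ 6 * (q ^ 2 - 1) * (q ^ 6 - 1) := by
    rw [← h1]
    exact Nat.mul_le_mul_left _ h3
  have h5 : q ^ 6 * (q ^ 2 - 1) * (q ^ 6 - 1) ≤ (q ^ 2 * (q ^ 2 - 1)) ^ 2 * (q ^ 6 * (q - 1) ^ 2) := by
    have h6 : 1 ≤ (q - 1) ^ 2 := Nat.one_le_pow _ _ (by omega)
    have h7 : q ^ 6 - 1 ≤ q ^ 4 * (q ^ 2 - 1) * (q - 1) ^ 2 := by
      have h8 : 4 ≤ (q - 1) ^ 2 := by
        calc 4 = 2 ^ 2 := by norm_num
          _ ≤ (q - 1) ^ 2 := Nat.pow_le_pow_left (by omega) 2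
      have h9 : q ^ 2 ≤ (q ^ 2 - 1) * 4 := by
        have : 9 ≤ q ^ 2 := by nlinarith
        omega
      calc q ^ 6 - 1 ≤ q ^ 6 := Nat.sub_le _ _
        _ = q ^ 4 * q ^ 2 := by ring
        _ ≤ q ^ 4 * ((q ^ 2 - 1) * 4) := Nat.mul_le_mul_left _ h9
        _ ≤ q ^ 4 * ((q ^ 2 - 1) * (q - 1) ^ 2) := Nat.mul_le_mul_left _ (Nat.mul_le_mul_left _ h8)
        _ = _ := by ring
    calc q ^ 6 * (q ^ 2 - 1) * (q ^ 6 - 1)
        ≤ q ^ 6 * (q ^ 2 - 1) * (q ^ 4 * (q ^ 2 - 1) * (q - 1) ^ 2) := Nat.mul_le_mul_left _ h7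
      _ = _ := by ring
  exact Nat.le_of_mul_le_mul_right (le_trans h4 h5) (Nat.mul_pos (by positivity) (Nat.pow_pos (by omega)))

theorem row_G2_nine {F : Type u} [Field F] [Finite F] (h3 : (3 : F) = 0) (hq : 9 ≤ Nat.card F) :
    Row ↥(chevG2.group F) := by
  have : Fintype F := Fintype.ofFinite F
  have hfinG : Finite ↥(chevG2.group F) := inferInstance
  have : Fact (Nat.Prime 3) := ⟨Nat.prime_three⟩
  have hchar : CharP F 3 := by
    have h1 : ((3 : ℕ) : F) = 0 := by exact_mod_cast h3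
    obtain ⟨r, hr⟩ := CharP.exists F
    have h2 : r ∣ 3 := (CharP.cast_eq_zero_iff F r 3).1 h1
    rcases (Nat.dvd_prime Nat.prime_three).1 h2 with h4 | h4
    · exact absurd h4 (CharP.char_ne_one F r)
    · rwa [← h4]
  obtain ⟨U, hU⟩ := exists_sylow (F := F) hG2 (p := 3)
  refine Row.of_sylow U ?_ fun L hL => ?_
  · rw [hU, normalizer_UU hG2]
    exact BB_ne_top
  · rw [hU, normalizer_UU hG2]
    exact le_trans (index_BB_le (by omega)) (Nat.pow_le_pow_left (CfG2Three.main h3 hq (simple_G2 (by omega)) L hL) 2)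

theorem row_G2 {S : Type u} [Group S] (h : Lie.IsoChevG2 S) : Row S := by
  obtain ⟨F, _, _, hq, e⟩ := h
  refine Row.of_nonempty e ?_
  rw [← Nat.card_eq_fintype_card] at hq
  by_cases h3 : (3 : F) = 0
  · by_cases h9 : 9 ≤ Nat.card F
    · exact row_G2_nine h3 h9
    · -- the order is a power of 3
      apply CfGraph.row_G2_three
      have h1 : ((3 : ℕ) : F) = 0 := by exact_mod_cast h3
      obtain ⟨r, hr⟩ := CharP.exists F
      have h2 : r ∣ 3 := (CharP.cast_eq_zero_iff F r 3).1 h1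
      have hr3 : r = 3 := by
        rcases (Nat.dvd_prime Nat.prime_three).1 h2 with h4 | h4
        · exact absurd h4 (CharP.char_ne_one F r)
        · exact h4
      subst hr3
      obtain ⟨n, -, hn⟩ := FiniteField.card F 3
      rw [← Nat.card_eq_fintype_card] at hn
      rw [hn] at hq h9 ⊢
      have hn2 : (n : ℕ) < 2 := by
        by_contra hcon
        push Not at hcon
        exact h9 (le_trans (by norm_num : 9 ≤ 3 ^ 2) (Nat.pow_le_pow_right (by norm_num) hcon))
      have hn1 := n.pos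
      have : (n : ℕ) = 1 := by omega
      rw [this]; norm_num
  · exact CfRowChev.row_G2_ne h3 hq

end Cfsg.Agent.H430.CfG2Row
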