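import Cfsg.Agent.H430.CfChev
import Cfsg.Agent.H70.PermFix

/-!
# The stabiliser of a pair of root subgroups in a finite Chevalley group

As `CfChev`, for a pair `(X_a, X_b)` of root subgroups normalised by `B`.
-/

set_option autoImplicit false

namespace Cfsg.Agent.H430.CfPair

open scoped Pointwise
open Cfsg Cfsg.Lie Cfsg.Agent.ChevalleyStructure Cfsg.Agent.ChevalleyStructure.Elts
  Cfsg.Agent.ChevalleyStructure.NConj Cfsg.Agent.ChevalleyStructure.BNChev Cfsg.Agent.S1042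
  Cfsg.Agent.Schreier.ChevLocal Cfsg.Agent.H70.AutFix Cfsg.Agent.H70.ChevTab Cfsg.Agent.H70.ChevFix
  Cfsg.Agent.H430.CfChev Cfsg.Agent.H70.ChevField Cfsg.Agent.H70.PermFix

universe u

variable {D : ChevalleyDatum} (hD : InList D) {F : Type u} [Field F]

/-- The conjugates of the pair `(X_r, X_s)` under `B`. -/
def Om2 (D : ChevalleyDatum) (F : Type u) [Field F] (p : ℕ × ℕ) : Set (Subgroup ↥(D.group F) × Subgroup ↥(D.group F)) :=
  {Y | ∃ b ∈ BB D F, Y = (MulAut.conj b • XX D F p.1, MulAut.conj b • XX D F p.2)}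

/-- reflection of a pair -/
def rp (D : ChevalleyDatum) (i : ℕ) (p : ℕ × ℕ) : ℕ × ℕ := (D.reflectRoot i p.1, D.reflectRoot i p.2)

/-- both entries are roots -/
def Lt (D : ChevalleyDatum) (p : ℕ × ℕ) : Prop := p.1 < D.nroots ∧ p.2 < D.nroots

theorem rp_lt (hD : InList D) {i : ℕ} (hi : i < D.rank) {p : ℕ × ℕ} (hp : Lt D p) : Lt D (rp D i p) :=
  ⟨Reach.reflect_lt hD hi hp.1, Reach.reflect_lt hD hi hp.2⟩

theorem rp_rp (hD : InList D) {i : ℕ} (hi : i < D.rank) {p : ℕ × ℕ} (hp : Lt D p) : rp D i (rp D i p) = p :=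
  Prod.ext (Reach.reflect_reflect hD hi hp.1) (Reach.reflect_reflect hD hi hp.2)

/-- The step. -/
theorem Om2_reflect (hD : InList D) [Finite F] (i : Fin D.rank) {p : ℕ × ℕ} (hp : Lt D p) :
    (Om2 D F (rp D i p)).ncard ≤ Nat.card F * (Om2 D F p).ncard := by
  have hfin : Finite (GL D.Idx F) := inferInstance
  have hfinG : Finite ↥(D.group F) := inferInstance
  have hfinS : Finite (Subgroup ↥(D.group F)) := inferInstance
  have hsub : Om2 D F (rp D i p) ⊆
      (fun q : F × (Subgroup ↥(D.group F) × Subgroup ↥(D.group F)) =>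
        (MulAut.conj (xx hD i q.1 * (nn hD F i)⁻¹) • q.2.1, MulAut.conj (xx hD i q.1 * (nn hD F i)⁻¹) • q.2.2)) ''
        (Set.univ ×ˢ Om2 D F p) := by
    rintro Y ⟨b, hb, rfl⟩
    obtain ⟨u, hu, h, hh, rfl⟩ := Schreier.ChevSch.exists_mul F hD hb
    obtain ⟨t, ht⟩ := exists_xx hD i hu
    have h1 : nn hD F i * ((xx hD i t)⁻¹ * u * h) * (nn hD F i)⁻¹ ∈ BB D F := by
      have e : nn hD F i * ((xx hD i t)⁻¹ * u * h) * (nn hD F i)⁻¹ =
          (nn hD F i * ((xx hD i t)⁻¹ * u) * (nn hD F i)⁻¹) * (nn hD F i * h * (nn hD F i)⁻¹) := by group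
      rw [e]
      refine mul_mem ?_ ?_
      · exact UU_le F (VV_le F i ((Subgroup.mem_normalizer_iff.1 (nn_mem_normalizer hD F i) _).1 ht))
      · refine Subgroup.mem_sup_right ?_
        exact conj_mem_diagonal hD (nG_mem_monomial hD (simple_lt hD i.2) one_ne_zero) hh
    have key : ∀ r, r < D.nroots → MulAut.conj (xx hD i t * (nn hD F i)⁻¹) •
        MulAut.conj (nn hD F i * ((xx hD i t)⁻¹ * u * h) * (nn hD F i)⁻¹) • XX D F r =
        MulAut.conj (u * h) • XX D F (D.reflectRoot i r) := by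
      intro r hr
      rw [smul_smul, ← map_mul, ← nn_inv_smul_XX hD i hr, smul_smul, ← map_mul]
      congr 2
      group
    refine ⟨(t, (MulAut.conj (nn hD F i * ((xx hD i t)⁻¹ * u * h) * (nn hD F i)⁻¹) • XX D F p.1,
      MulAut.conj (nn hD F i * ((xx hD i t)⁻¹ * u * h) * (nn hD F i)⁻¹) • XX D F p.2)),
      ⟨Set.mem_univ _, ⟨_, h1, rfl⟩⟩, ?_⟩
    exact Prod.ext (key _ hp.1) (key _ hp.2)
  refine (Set.ncard_le_ncard hsub (Set.toFinite _)).trans ?_
  refine (Set.ncard_image_le (Set.toFinite _)).trans ?_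
  rw [Set.ncard_prod, Set.ncard_univ]

/-- `B` normalises both members of the pair. -/
def BFix (D : ChevalleyDatum) (F : Type u) [Field F] (p : ℕ × ℕ) : Prop :=
  ∀ b ∈ BB D F, MulAut.conj b • XX D F p.1 = XX D F p.1 ∧ MulAut.conj b • XX D F p.2 = XX D F p.2

theorem Om2_top {p : ℕ × ℕ} (hB : BFix D F p) : Om2 D F p = {(XX D F p.1, XX D F p.2)} := by
  ext Y
  constructor
  · rintro ⟨b, hb, rfl⟩
    exact Prod.ext (hB b hb).1 (hB b hb).2
  · rintro rfl
    exact ⟨1, one_mem _, by rw [map_one, one_smul, one_smul]⟩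

/-- A table of distances from the pair `top`. -/
structure DistOk2 (D : ChevalleyDatum) (O : List (ℕ × ℕ)) (top : ℕ × ℕ) (d : ℕ × ℕ → ℕ) : Prop where
  lt : ∀ p ∈ O, Lt D p
  top_mem : top ∈ O
  step : ∀ p ∈ O, p = top ∨ ∃ i < D.rank, rp D i p ∈ O ∧ d (rp D i p) + 1 = d p
  closed : ∀ p ∈ O, ∀ i < D.rank, rp D i p ∈ O

theorem ncard_Om2_le (hD : InList D) [Finite F] {O : List (ℕ × ℕ)} {top : ℕ × ℕ} {d : ℕ × ℕ → ℕ}
    (h : DistOk2 D O top d) (hB : BFix D F top) {p : ℕ × ℕ} (hp : p ∈ O) :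
    (Om2 D F p).ncard ≤ Nat.card F ^ d p := by
  obtain ⟨n, hn⟩ : ∃ n, n = d p := ⟨_, rfl⟩
  induction n generalizing p with
  | zero =>
    rcases h.step p hp with h1 | ⟨i, hi, h1, h2⟩
    · rw [h1, Om2_top hB, Set.ncard_singleton]
      exact Nat.one_le_pow _ _ Nat.card_pos
    · omega
  | succ n ih =>
    rcases h.step p hp with h1 | ⟨i, hi, h1, h2⟩
    · rw [h1, Om2_top hB, Set.ncard_singleton]
      exact Nat.one_le_pow _ _ Nat.card_pos
    · have h3 := Om2_reflect (F := F) hD ⟨i, hi⟩ (h.lt _ h1)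
      rw [show ((⟨i, hi⟩ : Fin D.rank) : ℕ) = i from rfl, rp_rp hD hi (h.lt p hp)] at h3
      refine h3.trans ?_
      rw [← h2, pow_succ, mul_comm]
      exact Nat.mul_le_mul_right _ (ih h1 (by omega))

/-- the action of a group element on pairs -/
def act {G : Type*} [Group G] (g : G) (Y : Subgroup G × Subgroup G) : Subgroup G × Subgroup G :=
  (MulAut.conj g • Y.1, MulAut.conj g • Y.2)

theorem act_mul {G : Type*} [Group G] (a b : G) (Y : Subgroup G × Subgroup G) : act (a * b) Y = act a (act b Y) := by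
  unfold act
  rw [map_mul, mul_smul, mul_smul]

theorem act_one {G : Type*} [Group G] (Y : Subgroup G × Subgroup G) : act 1 Y = Y := by
  unfold act
  rw [map_one, one_smul, one_smul]

/-- `N` permutes the pairs of the orbit. -/
theorem exists_of_mem_NN2 (hD : InList D) [Finite F] {O : List (ℕ × ℕ)} {top : ℕ × ℕ} {d : ℕ × ℕ → ℕ}
    (h : DistOk2 D O top d) {n : ↥(D.group F)} (hn : n ∈ NN D F) {p : ℕ × ℕ} (hp : p ∈ O) :
    ∃ s ∈ O, act n (XX D F p.1, XX D F p.2) = (XX D F s.1, XX D F s.2) := by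
  have key : ∀ g : GL D.Idx F, g ∈ D.monomialSubgroup F → ∀ hg : g ∈ D.group F, ∀ p ∈ O,
      ∃ s ∈ O, act (⟨g, hg⟩ : ↥(D.group F)) (XX D F p.1, XX D F p.2) = (XX D F s.1, XX D F s.2) := by
    let K : Subgroup (GL D.Idx F) :=
      { carrier := {g | ∃ hg : g ∈ D.group F, (∀ p ∈ O, ∃ s ∈ O,
          act (⟨g, hg⟩ : ↥(D.group F)) (XX D F p.1, XX D F p.2) = (XX D F s.1, XX D F s.2)) ∧
          ∀ p ∈ O, ∃ s ∈ O, act (⟨g, hg⟩ : ↥(D.group F))⁻¹ (XX D F p.1, XX D F p.2) = (XX D F s.1, XX D F s.2)}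
        mul_mem' := by
          rintro a b ⟨ha, ha1, ha2⟩ ⟨hb, hb1, hb2⟩
          refine ⟨mul_mem ha hb, fun r hr => ?_, fun r hr => ?_⟩
          · obtain ⟨s, hs, e1⟩ := hb1 r hr
            obtain ⟨s', hs', e2⟩ := ha1 s hs
            refine ⟨s', hs', ?_⟩
            rw [← e2, ← e1, ← act_mul]
            rfl
          · obtain ⟨s, hs, e1⟩ := ha2 r hr
            obtain ⟨s', hs', e2⟩ := hb2 s hs
            refine ⟨s', hs', ?_⟩
            rw [← e2, ← e1, ← act_mul, ← mul_inv_rev]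
            rfl
        one_mem' := ⟨one_mem _, fun r hr => ⟨r, hr, by
          rw [show (⟨1, one_mem _⟩ : ↥(D.group F)) = 1 from rfl, act_one]⟩, fun r hr => ⟨r, hr, by
          rw [show (⟨1, one_mem _⟩ : ↥(D.group F)) = 1 from rfl, inv_one, act_one]⟩⟩
        inv_mem' := by
          rintro a ⟨ha, ha1, ha2⟩
          refine ⟨inv_mem ha, fun r hr => ?_, fun r hr => ?_⟩
          · exact ha2 r hr
          · obtain ⟨s, hs, e⟩ := ha1 r hr
            refine ⟨s, hs, ?_⟩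
            rw [← e]
            congr 2 }
    have hle : D.monomialSubgroup F ≤ K := by
      refine monomial_le_of hD (fun g hg => ?_) (fun i hi => ?_)
      · have hg' : (⟨g, diagonal_le_group hD F hg⟩ : ↥(D.group F)) ∈ HH D F := hg
        exact ⟨diagonal_le_group hD F hg,
          fun r hr => ⟨r, hr, Prod.ext (conj_XX hD hg' (h.lt r hr).1) (conj_XX hD hg' (h.lt r hr).2)⟩,
          fun r hr => ⟨r, hr, Prod.ext (conj_XX hD (inv_mem hg') (h.lt r hr).1)
            (conj_XX hD (inv_mem hg') (h.lt r hr).2)⟩⟩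
      · exact ⟨nG_mem_group hD _ _,
          fun r hr => ⟨_, h.closed r hr i hi, Prod.ext (nn_smul_XX hD ⟨i, hi⟩ (h.lt r hr).1)
            (nn_smul_XX hD ⟨i, hi⟩ (h.lt r hr).2)⟩,
          fun r hr => ⟨_, h.closed r hr i hi, Prod.ext (nn_inv_smul_XX hD ⟨i, hi⟩ (h.lt r hr).1)
            (nn_inv_smul_XX hD ⟨i, hi⟩ (h.lt r hr).2)⟩⟩
    intro g hg hg' r hr
    obtain ⟨_, h1, -⟩ := hle hg
    exact h1 r hr
  exact key n hn n.2 p hp

/-- The conjugates of the pair. -/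
theorem conj_mem_Om2 (hD : InList D) [Finite F] {O : List (ℕ × ℕ)} {top : ℕ × ℕ} {d : ℕ × ℕ → ℕ}
    (h : DistOk2 D O top d) (hB : BFix D F top) (g : ↥(D.group F)) :
    ∃ p ∈ O, act g (XX D F top.1, XX D F top.2) ∈ Om2 D F p := by
  obtain ⟨b, hb, n, hn, b', hb', rfl⟩ := bruhat hD g
  obtain ⟨s, hs, e⟩ := exists_of_mem_NN2 hD h hn h.top_mem
  refine ⟨s, hs, b, hb, ?_⟩
  have h1 : act b' (XX D F top.1, XX D F top.2) = (XX D F top.1, XX D F top.2) :=
    Prod.ext (hB b' hb').1 (hB b' hb').2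
  rw [act_mul, act_mul, h1, e]
  rfl

/-- The stabiliser of the pair. -/
def KK (D : ChevalleyDatum) (F : Type u) [Field F] (p : ℕ × ℕ) : Subgroup ↥(D.group F) :=
  Subgroup.normalizer (XX D F p.1 : Set ↥(D.group F)) ⊓ Subgroup.normalizer (XX D F p.2 : Set ↥(D.group F))

theorem mem_KK {p : ℕ × ℕ} {g : ↥(D.group F)} :
    g ∈ KK D F p ↔ act g (XX D F p.1, XX D F p.2) = (XX D F p.1, XX D F p.2) := by
  unfold KK act
  rw [Subgroup.mem_inf, mem_normalizer_iff_smul, mem_normalizer_iff_smul, Prod.mk.injEq]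

theorem sum_toFinset_le' (L : List (ℕ × ℕ)) (f : ℕ × ℕ → ℕ) : ∑ r ∈ L.toFinset, f r ≤ (L.map f).sum := by
  induction L with
  | nil => simp
  | cons a L ih =>
    rw [List.toFinset_cons, List.map_cons, List.sum_cons]
    by_cases ha : a ∈ L.toFinset
    · rw [Finset.insert_eq_self.2 ha]; omega
    · rw [Finset.sum_insert ha]; omega

/-- **The index of the stabiliser of the pair.** -/
theorem index_KK_le (hD : InList D) [Finite F] {O : List (ℕ × ℕ)} {top : ℕ × ℕ} {d : ℕ × ℕ → ℕ}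
    (h : DistOk2 D O top d) (hB : BFix D F top) :
    (KK D F top).index ≤ (O.map fun p => Nat.card F ^ d p).sum := by
  have hfin : Finite (GL D.Idx F) := inferInstance
  have hfinG : Finite ↥(D.group F) := inferInstance
  have hfinS : Finite (Subgroup ↥(D.group F)) := inferInstance
  set N := KK D F top with hN
  have h1 : N.index ≤ (Set.range fun g : ↥(D.group F) => act g (XX D F top.1, XX D F top.2)).ncard := by
    rw [Subgroup.index_eq_card, ← Nat.card_coe_set_eq]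
    refine Nat.card_le_card_of_injective (fun x => ⟨act x.out (XX D F top.1, XX D F top.2), ⟨_, rfl⟩⟩) ?_
    intro x y hxy
    have h2 : act x.out (XX D F top.1, XX D F top.2) = act y.out (XX D F top.1, XX D F top.2) :=
      congrArg Subtype.val hxy
    have h3 : (x.out)⁻¹ * y.out ∈ N := by
      refine mem_KK.2 ?_
      rw [act_mul, ← h2, ← act_mul, inv_mul_cancel, act_one]
    rw [← x.out_eq, ← y.out_eq]
    exact QuotientGroup.eq.2 h3
  have h2 : (Set.range fun g : ↥(D.group F) => act g (XX D F top.1, XX D F top.2)) ⊆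
      ⋃ r ∈ O.toFinset, Om2 D F r := by
    rintro _ ⟨g, rfl⟩
    obtain ⟨r, hr, hg⟩ := conj_mem_Om2 hD h hB g
    exact Set.mem_iUnion₂.2 ⟨r, List.mem_toFinset.2 hr, hg⟩
  refine h1.trans ((Set.ncard_le_ncard h2 (Set.toFinite _)).trans ?_)
  refine (Finset.set_ncard_biUnion_le _ _).trans ?_
  refine (Finset.sum_le_sum fun r hr => ncard_Om2_le hD h hB (List.mem_toFinset.1 hr)).trans ?_
  exact sum_toFinset_le' O _

/-! ### The check of a table -/

/-- the check of the table of distances; entries `(r, s, d, i)` -/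
def chk2 (D : ChevalleyDatum) (T : List (ℕ × ℕ × ℕ × ℕ)) (top : ℕ × ℕ) : Bool :=
  (T.all fun e => Nat.blt e.1 D.nroots && Nat.blt e.2.1 D.nroots &&
    ((Nat.beq e.1 top.1 && Nat.beq e.2.1 top.2) || (Nat.blt e.2.2.2 D.rank &&
      (T.find? fun e' => Nat.beq e'.1 (D.reflectRoot e.2.2.2 e.1) && Nat.beq e'.2.1 (D.reflectRoot e.2.2.2 e.2.1)).any
        fun e' => Nat.beq (e'.2.2.1 + 1) e.2.2.1)) &&
    (List.range D.rank).all fun i => T.any fun e' => Nat.beq e'.1 (D.reflectRoot i e.1) &&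
      Nat.beq e'.2.1 (D.reflectRoot i e.2.1)) &&
  (T.any fun e' => Nat.beq e'.1 top.1 && Nat.beq e'.2.1 top.2) &&
  T.all fun e => (T.find? fun e' => Nat.beq e'.1 e.1 && Nat.beq e'.2.1 e.2.1).any
        fun e' => Nat.beq e'.2.2.1 e.2.2.1

/-- the distance in the table -/
def dist (T : List (ℕ × ℕ × ℕ × ℕ)) (p : ℕ × ℕ) : ℕ :=
  match T.find? fun e' => Nat.beq e'.1 p.1 && Nat.beq e'.2.1 p.2 with
  | some e => e.2.2.1
  | none => 0

/-- the pairs of the table -/
def prs (T : List (ℕ × ℕ × ℕ × ℕ)) : List (ℕ × ℕ) := T.map fun e => (e.1, e.2.1)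

theorem mem_prs {T : List (ℕ × ℕ × ℕ × ℕ)} {p : ℕ × ℕ}
    (h : (T.any fun e' => Nat.beq e'.1 p.1 && Nat.beq e'.2.1 p.2) = true) : p ∈ prs T := by
  obtain ⟨e, he, h1⟩ := List.any_eq_true.1 h
  rw [Bool.and_eq_true] at h1
  exact List.mem_map.2 ⟨e, he, Prod.ext (Nat.eq_of_beq_eq_true h1.1) (Nat.eq_of_beq_eq_true h1.2)⟩

theorem dist_eq {T : List (ℕ × ℕ × ℕ × ℕ)} {p : ℕ × ℕ} {n : ℕ} {f : ℕ → ℕ}
    (h : ((T.find? fun e' => Nat.beq e'.1 p.1 && Nat.beq e'.2.1 p.2).any fun e' => Nat.beq (f e'.2.2.1) n) = true) :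
    f (dist T p) = n ∧ p ∈ prs T := by
  unfold dist
  cases hE : T.find? fun e' => Nat.beq e'.1 p.1 && Nat.beq e'.2.1 p.2 with
  | none => rw [hE] at h; simp at h
  | some e =>
    rw [hE] at h
    refine ⟨Nat.eq_of_beq_eq_true h, mem_prs (List.any_eq_true.2 ⟨e, List.mem_of_find?_eq_some hE, ?_⟩)⟩
    have h2 := List.find?_some (p := fun e' : ℕ × ℕ × ℕ × ℕ => Nat.beq e'.1 p.1 && Nat.beq e'.2.1 p.2) hE
    exact h2

theorem distOk2 {T : List (ℕ × ℕ × ℕ × ℕ)} {top : ℕ × ℕ} (h : chk2 D T top = true) :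
    DistOk2 D (prs T) top (dist T) ∧ ((prs T).map (dist T)) = T.map fun e => e.2.2.1 := by
  unfold chk2 at h
  rw [Bool.and_eq_true, Bool.and_eq_true] at h
  obtain ⟨⟨h1, h2⟩, h3⟩ := h
  have hd : ∀ e ∈ T, dist T (e.1, e.2.1) = e.2.2.1 := fun e he =>
    (dist_eq (T := T) (p := (e.1, e.2.1)) (f := fun n => n) (List.all_eq_true.1 h3 e he)).1
  refine ⟨⟨?_, mem_prs h2, ?_, ?_⟩, ?_⟩
  · intro p hp
    obtain ⟨e, he, rfl⟩ := List.mem_map.1 hp
    have h4 := List.all_eq_true.1 h1 e he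
    rw [Bool.and_eq_true, Bool.and_eq_true, Bool.and_eq_true] at h4
    exact ⟨(Nat.blt_eq ..).mp h4.1.1.1, (Nat.blt_eq ..).mp h4.1.1.2⟩
  · intro p hp
    obtain ⟨e, he, rfl⟩ := List.mem_map.1 hp
    have h4 := List.all_eq_true.1 h1 e he
    simp only [Bool.and_eq_true, Bool.or_eq_true] at h4
    rcases h4.1.2 with h5 | ⟨h5, h6⟩
    · exact Or.inl (Prod.ext (Nat.eq_of_beq_eq_true h5.1) (Nat.eq_of_beq_eq_true h5.2))
    · have h7 := dist_eq (T := T) (p := rp D e.2.2.2 (e.1, e.2.1)) (f := fun n => n + 1) h6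
      refine Or.inr ⟨e.2.2.2, (Nat.blt_eq ..).mp h5, h7.2, ?_⟩
      rw [hd e he]
      exact h7.1
  · intro p hp i hi
    obtain ⟨e, he, rfl⟩ := List.mem_map.1 hp
    have h4 := List.all_eq_true.1 h1 e he
    rw [Bool.and_eq_true] at h4
    exact mem_prs (p := rp D i (e.1, e.2.1)) (List.all_eq_true.1 h4.2 i (List.mem_range.2 hi))
  · unfold prs
    rw [List.map_map]
    exact List.map_congr_left fun e he => hd e he

/-! ### The invariance -/

theorem nn_eq_ne (i : Fin D.rank) : nn hD F i = ne hD (D.simple i) 1 := rfl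

theorem ne_smul_XX [Finite F] (i : Fin D.rank) {t : F} (ht : t ≠ 0) {r : ℕ} (hr : r < D.nroots) :
    MulAut.conj (ne hD (D.simple i) t) • XX D F r = XX D F (D.reflectRoot i r) := by
  rw [ne_eq hD (D.simple i) t, map_mul, mul_smul, ← nn_eq_ne hD i, nn_smul_XX hD i hr,
    conj_XX hD (he_mem_HH hD (simple_lt hD i.2) ht) (Reach.reflect_lt hD i.2 hr)]

/-- automorphisms permuting the fundamental root subgroups commute with reflections -/
theorem smul_reflect (hD : InList D) [Finite F] {φ : MulAut ↥(D.group F)} {π : Equiv.Perm (Fin D.rank)} (hφ : Perm D F φ π)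
    (i : Fin D.rank) {r r' : ℕ} (hr : r < D.nroots) (hr' : r' < D.nroots) (h : φ • XX D F r = XX D F r') :
    φ • XX D F (D.reflectRoot i r) = XX D F (D.reflectRoot (π i) r') := by
  obtain ⟨c, σ, hc, h1, h2, -⟩ := exists_field hD hφ
  rw [← ne_smul_XX hD i one_ne_zero hr, smul_conj_smul, h, map_ne hD (h1 i) (h2 i)]
  refine ne_smul_XX hD (π i) (mul_ne_zero (hc i) ?_) hr'
  rw [map_one]; exact one_ne_zero

/-- a word of reflections -/
def refl (D : ChevalleyDatum) (w : List ℕ) (r : ℕ) : ℕ := w.foldl (fun r i => D.reflectRoot i r) r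

theorem smul_word (hD : InList D) [Finite F] {φ : MulAut ↥(D.group F)} {π : Equiv.Perm (Fin D.rank)} (hφ : Perm D F φ π)
    (w : List (Fin D.rank)) {r r' : ℕ} (hr : r < D.nroots) (hr' : r' < D.nroots) (h : φ • XX D F r = XX D F r') :
    φ • XX D F (refl D (w.map fun i => (i : ℕ)) r) = XX D F (refl D (w.map fun i => ((π i : Fin D.rank) : ℕ)) r') := by
  induction w generalizing r r' with
  | nil => exact h
  | cons i w ih =>
    exact ih (Reach.reflect_lt hD i.2 hr) (Reach.reflect_lt hD (π i).2 hr') (smul_reflect hD hφ i hr hr' h)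

end Cfsg.Agent.H430.CfPair
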