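import Cfsg.Prelude.Def_Classification2
import Cfsg.Agent.H430.CfOut
import Cfsg.Agent.S2060
import Cfsg.Agent.S2063
import Cfsg.Agent.S2064
import Cfsg.Agent.S2065
import Cfsg.Agent.S2068
import Cfsg.Agent.S2069
import Cfsg.Agent.S2070
import Cfsg.Agent.S2071
import Cfsg.Agent.S2076
import Cfsg.Agent.S2077
import Cfsg.Agent.S2080
import Cfsg.Agent.S2083
import Cfsg.Agent.S2084
import Cfsg.Agent.S2085

/-!
# Rows of S5880: the sporadic groups with `Out = 1`
-/

set_option autoImplicit false

namespace Cfsg.Agent.H430.CfSpor

open Cfsg Cfsg.Spor Cfsg.Agent.H430.CfBase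

universe u

/-- a group with a proper non-identity quotient of the outer automorphisms is nontrivial -/
theorem nontrivial_of_simple {G : Type u} [Group G] (h : IsSimpleGroup G) : Nontrivial G := h.toNontrivial

theorem row_m11 {G : Type u} [Group G] [IsSimpleGroup G] (h : IsoM11 G) : Row G := by
  have hN : Nontrivial M11 := h.some.symm.toEquiv.nontrivial
  exact Row.of_card_out_one h S2060.result

theorem row_m23 {G : Type u} [Group G] [IsSimpleGroup G] (h : IsoM23 G) : Row G := by
  have hN : Nontrivial M23 := h.some.symm.toEquiv.nontrivial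
  exact Row.of_card_out_one h S2063.result

theorem row_m24 {G : Type u} [Group G] [IsSimpleGroup G] (h : IsoM24 G) : Row G := by
  have hN : Nontrivial M24 := h.some.symm.toEquiv.nontrivial
  exact Row.of_card_out_one h S2064.result

theorem row_j1 {G : Type u} [Group G] [IsSimpleGroup G] (h : IsoJ1 G) : Row G := by
  have hN : Nontrivial J1 := h.some.symm.toEquiv.nontrivial
  exact Row.of_card_out_one h S2065.result

theorem row_j4 {G : Type u} [Group G] [IsSimpleGroup G] (h : IsoJ4 G) : Row G := by
  have hN : Nontrivial J4 := h.some.symm.toEquiv.nontrivial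
  exact Row.of_card_out_one h S2068.result

theorem row_co1 {G : Type u} [Group G] [IsSimpleGroup G] (h : IsoCo1 G) : Row G := by
  have hN : Nontrivial Co1 := h.some.symm.toEquiv.nontrivial
  exact Row.of_card_out_one h S2069.result

theorem row_co2 {G : Type u} [Group G] [IsSimpleGroup G] (h : IsoCo2 G) : Row G := by
  have hN : Nontrivial Co2 := h.some.symm.toEquiv.nontrivial
  exact Row.of_card_out_one h S2070.result

theorem row_co3 {G : Type u} [Group G] [IsSimpleGroup G] (h : IsoCo3 G) : Row G := by
  have hN : Nontrivial Co3 := h.some.symm.toEquiv.nontrivial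
  exact Row.of_card_out_one h S2071.result

theorem row_ly {G : Type u} [Group G] [IsSimpleGroup G] (h : IsoLy G) : Row G := by
  have hN : Nontrivial Ly := h.some.symm.toEquiv.nontrivial
  exact Row.of_card_out_one h S2076.result

theorem row_ru {G : Type u} [Group G] [IsSimpleGroup G] (h : IsoRu G) : Row G := by
  have hN : Nontrivial Ru := h.some.symm.toEquiv.nontrivial
  exact Row.of_card_out_one h S2077.result

theorem row_fi23 {G : Type u} [Group G] [IsSimpleGroup G] (h : IsoFi23 G) : Row G := by
  have hN : Nontrivial Fi23 := h.some.symm.toEquiv.nontrivial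
  exact Row.of_card_out_one h S2080.result

theorem row_th {G : Type u} [Group G] [IsSimpleGroup G] (h : IsoTh G) : Row G := by
  have hN : Nontrivial Th := h.some.symm.toEquiv.nontrivial
  exact Row.of_card_out_one h S2083.result

theorem row_b {G : Type u} [Group G] [IsSimpleGroup G] (h : IsoB G) : Row G := by
  have hN : Nontrivial BabyMonster := h.some.symm.toEquiv.nontrivial
  exact Row.of_card_out_one h S2084.result

theorem row_m {G : Type u} [Group G] [IsSimpleGroup G] (h : IsoM G) : Row G := by
  have hN : Nontrivial Monster := h.some.symm.toEquiv.nontrivial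
  exact Row.of_card_out_one h S2085.result

end Cfsg.Agent.H430.CfSpor
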